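import Cfsg.Agent.H829.Pron.CharTwo
import Cfsg.Agent.H165.RV.Step

/-!
# Pronormality: reduction to the overgroups of a Sylow subgroup; own characteristic (helper408)

* `of_sylow` : it suffices to look at the overgroups of a Sylow `p`-subgroup `S` and at `g ∈ N(S)`;
* `pr_of_rgdAb` : in a group with a root group datum of characteristic `p` with commutative torus every
  subgroup of index prime to `p` is pronormal.
-/

set_option autoImplicit false
set_option linter.unusedSectionVars false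

namespace Cfsg.Agent.H408.Hall.Own

open Cfsg Subgroup Cfsg.Agent.H165.RV
open scoped Pointwise

universe u

variable {G : Type u} [Group G]

theorem Pr_conj {H : Subgroup G} {g : G} (c : G) (h : Pr (MulAut.conj c • H) (c * g * c⁻¹)) : Pr H g := by
  obtain ⟨x, hx, he⟩ := h
  have e1 : MulAut.conj (c * g * c⁻¹) • MulAut.conj c • H = MulAut.conj c • MulAut.conj g • H := by
    rw [← smul_mul, ← smul_mul]
    congr 2
    group
  rw [e1, ← smul_sup'] at hx
  refine ⟨c⁻¹ * x * c, ?_, ?_⟩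
  · have h1 := Subgroup.smul_mem_pointwise_smul _ (MulAut.conj c⁻¹) _ hx
    rw [conj_inv_smul_smul] at h1
    simpa [MulAut.smul_def] using h1
  · rw [e1, ← smul_mul] at he
    have h1 : MulAut.conj c⁻¹ • MulAut.conj (c * g) • H = MulAut.conj c⁻¹ • MulAut.conj x • MulAut.conj c • H := by
      rw [he]
    rw [← smul_mul, ← smul_mul, ← smul_mul] at h1
    have e2 : c⁻¹ * (c * g) = g := by group
    rwa [e2] at h1

variable [Finite G]

theorem exists_sylow_le {p : ℕ} [hp : Fact p.Prime] {H : Subgroup G} (hH : ¬ p ∣ H.index) :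
    ∃ P : Sylow p G, (P : Subgroup G) ≤ H := by
  obtain ⟨Q⟩ : Nonempty (Sylow p H) := inferInstance
  have hcard : Nat.card ((Q : Subgroup H).map H.subtype) = p ^ (Nat.card G).factorization p := by
    rw [Subgroup.card_map_of_injective H.subtype_injective, Q.card_eq_multiplicity, ← H.card_mul_index,
      Nat.factorization_mul Nat.card_pos.ne' Subgroup.index_ne_zero_of_finite, Finsupp.add_apply,
      Nat.factorization_eq_zero_of_not_dvd hH, add_zero]
  exact ⟨Sylow.ofCard _ hcard, Subgroup.map_subtype_le _⟩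

/-- It suffices to look at the overgroups of a given Sylow subgroup and at the elements of its normalizer. -/
theorem of_sylow {p : ℕ} [hp : Fact p.Prime] (S : Sylow p G) (Q : Subgroup G → Prop)
    (hQ : ∀ H : Subgroup G, ∀ g : G, Q H → Q (MulAut.conj g • H)) (hi : ∀ H : Subgroup G, Q H → ¬ p ∣ H.index)
    (h : ∀ H : Subgroup G, Q H → (S : Subgroup G) ≤ H →
      ∀ m ∈ Subgroup.normalizer ((S : Subgroup G) : Set G), Pr H m) :
    ∀ H : Subgroup G, Q H → ∀ g, Pr H g := by
  intro H hH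
  obtain ⟨P, hP⟩ := exists_sylow_le (hi H hH)
  obtain ⟨c, hc⟩ := MulAction.exists_smul_eq G P S
  have key : ∀ K : Subgroup G, Q K → (S : Subgroup G) ≤ K → ∀ g, Pr K g := by
    intro K hK hSK g
    set J := K ⊔ MulAut.conj g • K with hJ
    have hSJ : (S : Subgroup G) ≤ J := hSK.trans le_sup_left
    have hgJ : ((g • S : Sylow p G) : Subgroup G) ≤ J := by
      rw [Sylow.coe_subgroup_smul]
      exact (pointwise_smul_le_pointwise_smul_iff.mpr hSK).trans le_sup_right
    obtain ⟨k, hk⟩ := MulAction.exists_smul_eq J (S.subtype hSJ) ((g • S).subtype hgJ)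
    have hk' : (k : G) • S = g • S := by
      rw [Sylow.smul_subtype] at hk
      exact Sylow.subtype_injective hk
    refine Pr.trans k.2 (h K hK hSK _ ?_)
    exact Sylow.smul_eq_iff_mem_normalizer.1 (by rw [mul_smul, ← hk', inv_smul_smul])
  intro g
  apply Pr_conj c
  refine key _ (hQ H c hH) ?_ _
  rw [← hc, Sylow.coe_subgroup_smul]
  exact pointwise_smul_le_pointwise_smul_iff.mpr hP

/-- **The abstract row in characteristic `p`** -/
theorem pr_of_bn {p : ℕ} [hp : Fact p.Prime] (S : Sylow p G) (T : Subgroup G)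
    (hTS : ∀ t ∈ T, ∀ x ∈ (S : Subgroup G), t * x * t⁻¹ ∈ (S : Subgroup G))
    (hTc : ∀ s ∈ T, ∀ t ∈ T, s * t = t * s)
    (hN : ∀ g ∈ Subgroup.normalizer ((S : Subgroup G) : Set G), ∃ u ∈ (S : Subgroup G), ∃ t ∈ T, g = u * t)
    (hB : ∀ g : G, ∃ a ∈ (S : Subgroup G), ∃ n : G, (∀ t ∈ T, n⁻¹ * t * n ∈ T) ∧
      ∃ b ∈ (S : Subgroup G), g = a * n * b) : ∀ H : Subgroup G, ¬ p ∣ H.index → ∀ g, Pr H g := by
  refine of_sylow S (fun H => ¬ p ∣ H.index) ?_ (fun H h => h) fun H _ hH m hm => ?_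
  · intro H g h
    rw [← cj_eq]
    have h1 : (H.map (MulAut.conj g : G ≃* G).toMonoidHom).index = H.index :=
      Subgroup.index_map_equiv H (MulAut.conj g)
    rwa [h1]
  obtain ⟨u, hu, t, ht, rfl⟩ := hN m hm
  have key : ∀ x ∈ H, t * x * t⁻¹ ∈ H := by
    intro x hx
    obtain ⟨a, ha, n, hn, b, hb, hx'⟩ := hB x
    obtain ⟨K, hK⟩ : ∃ K : Subgroup G, K = (S : Subgroup G) ⊔ (S : Subgroup G).map (MulAut.conj n).toMonoidHom :=
      ⟨_, rfl⟩
    have hSK : (S : Subgroup G) ≤ K := by rw [hK]; exact le_sup_left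
    have hnS : ∀ s ∈ (S : Subgroup G), n * s * n⁻¹ ∈ K := fun s hs => by
      rw [hK]; exact Subgroup.mem_sup_right ⟨s, hs, rfl⟩
    have hxS : ∀ s ∈ (S : Subgroup G), x * s * x⁻¹ ∈ K := by
      intro s hs
      have h1 : n * (b * s * b⁻¹) * n⁻¹ ∈ K := hnS _ (mul_mem (mul_mem hb hs) (inv_mem hb))
      have h2 := mul_mem (mul_mem (hSK ha) h1) (inv_mem (hSK ha))
      rw [hx']
      convert h2 using 1
      group
    have hKH : K ≤ H := by
      have hn' : n = a⁻¹ * x * b⁻¹ := by rw [hx']; group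
      have hnH : n ∈ H := by
        rw [hn']
        exact mul_mem (mul_mem (inv_mem (hH ha)) hx) (inv_mem (hH hb))
      rw [hK]
      refine sup_le hH ?_
      rintro _ ⟨s, hs, rfl⟩
      exact mul_mem (mul_mem hnH (hH hs)) (inv_mem hnH)
    -- `t` normalises `K`
    have htK : K ≤ K.comap (MulAut.conj t).toMonoidHom := by
      conv_lhs => rw [hK]
      refine sup_le (fun s hs => hSK (hTS t ht s hs)) ?_
      rintro _ ⟨s, hs, rfl⟩
      have h1 := hnS _ (hTS _ (hn t ht) s hs)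
      show t * (n * s * n⁻¹) * t⁻¹ ∈ K
      convert h1 using 1
      group
    -- Sylow in `K`
    have hle : ((x • S : Sylow p G) : Subgroup G) ≤ K := by
      rw [Sylow.coe_subgroup_smul]
      intro y hy
      obtain ⟨s, hs, rfl⟩ := (Subgroup.mem_smul_pointwise_iff_exists _ _ _).1 hy
      exact hxS s hs
    obtain ⟨k, hk⟩ := MulAction.exists_smul_eq K (S.subtype hSK) ((x • S).subtype hle)
    have hk' : (k : G) • S = x • S := by
      rw [Sylow.smul_subtype] at hk
      exact Sylow.subtype_injective hk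
    have hk2 : (k : G)⁻¹ * x ∈ Subgroup.normalizer ((S : Subgroup G) : Set G) :=
      Sylow.smul_eq_iff_mem_normalizer.1 (by rw [mul_smul, ← hk', inv_smul_smul])
    obtain ⟨v, hv, s, hs, e⟩ := hN _ hk2
    have e2 : x = (k * v) * s := by
      rw [mul_assoc, ← e]; group
    have h3 : (k : G) * v ∈ K := mul_mem k.2 (hSK hv)
    have hsH : s ∈ H := by
      have : s = ((k : G) * v)⁻¹ * x := by rw [e2]; group
      rw [this]
      exact mul_mem (inv_mem (hKH h3)) hx
    have h4 : t * ((k : G) * v) * t⁻¹ ∈ H := hKH (htK h3)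
    have e3 : t * x * t⁻¹ = (t * ((k : G) * v) * t⁻¹) * s := by
      have h5 : t * s = s * t := hTc t ht s hs
      rw [e2]
      calc t * (k * v * s) * t⁻¹ = t * (k * v) * t⁻¹ * (t * s) * t⁻¹ := by group
        _ = _ := by rw [h5]; group
    rw [e3]
    exact mul_mem h4 hsH
  have key2 : ∀ x ∈ H, u * t * x * (u * t)⁻¹ ∈ H := by
    intro x hx
    have h1 := mul_mem (mul_mem (hH hu) (key x hx)) (inv_mem (hH hu))
    convert h1 using 1
    group
  apply Pr.of_eq
  apply Subgroup.eq_of_le_of_card_ge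
  · intro y hy
    obtain ⟨x, hx, rfl⟩ := (Subgroup.mem_smul_pointwise_iff_exists _ _ _).1 hy
    exact key2 x hx
  · rw [card_smul]

open CoxeterSystem Cfsg.Agent.ChevalleyStructure.CoxeterGeom Cfsg.Agent.Tits.Roots Cfsg.Agent.Tits.Core
  Cfsg.Agent.Nodes.Reps Cfsg.Agent.Nodes.BNOf Cfsg.Agent.Nodes.StabComb
  Cfsg.Agent.Nodes.Bruhat Cfsg.Agent.KFacts.RgdAut Cfsg.Agent.H716.RGDAb

/-- **Own characteristic**: every subgroup of index prime to `p` is pronormal. -/
theorem pr_of_rgdAb {p : ℕ} [hp : Fact p.Prime] (hG : HasRGDAb p G) :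
    ∀ H : Subgroup G, ¬ p ∣ H.index → ∀ g, Pr H g := by
  obtain ⟨l, M, A, h, T, n, X, hW, R, hX, hab⟩ := hG
  have hGG : GG M.toCoxeterSystem h T X = ⊤ := by
    rw [eq_top_iff, ← hX]
    exact le_sup_right
  obtain ⟨S, hS⟩ : ∃ S : Sylow p G, (S : Subgroup G) = RGD.Sup X (RGD.Pos M.toCoxeterSystem h) := by
    obtain ⟨S', hS'⟩ := R.isPGroup_Upos.exists_le_sylow
    exact ⟨S', Cfsg.Agent.Nodes.NormalForm.eq_U_of_isPGroup R S'.2 hS' (by rw [hGG]; exact le_top)⟩
  have hTN := R.T_le_normalizer_U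
  have hTS : ∀ t ∈ T, ∀ x ∈ (S : Subgroup G), t * x * t⁻¹ ∈ (S : Subgroup G) := by
    intro t ht x hx
    rw [hS] at hx ⊢
    exact (Subgroup.mem_normalizer_iff.1 (hTN ht) x).1 hx
  refine pr_of_bn S T hTS hab ?_ ?_
  · intro g hg
    rw [hS] at hg
    have h1 : g ∈ RGD.B M.toCoxeterSystem h T X := by
      rw [← normalizer_U' R hGG]
      exact hg
    obtain ⟨t, ht, u, hu, rfl⟩ := R.mem_B.1 h1
    refine ⟨t * u * t⁻¹, hTS t ht u (by rw [hS]; exact hu), t, ht, by group⟩
  · intro g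
    have hg : g ∈ GG M.toCoxeterSystem h T X := by rw [hGG]; exact Subgroup.mem_top g
    obtain ⟨w, b₁, hb₁, k, hk, b₂, hb₂, e⟩ := (mem_GG R).1 hg
    obtain ⟨t, ht, u, hu, rfl⟩ := R.mem_B.1 hb₁
    obtain ⟨t', ht', u', hu', rfl⟩ := R.mem_B.1 hb₂
    have hkn := hk.mem_normalizer
    refine ⟨t * u * t⁻¹, hTS t ht u (by rw [hS]; exact hu), t * k * t', ?_, u', by rw [hS]; exact hu', ?_⟩
    · intro s hs
      have h1 : k⁻¹ * (t⁻¹ * s * t) * k ∈ T := by
        have h2 := (Subgroup.mem_normalizer_iff.1 (inv_mem hkn) (t⁻¹ * s * t)).1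
          (mul_mem (mul_mem (inv_mem ht) hs) ht)
        rwa [inv_inv] at h2
      have h3 := mul_mem (mul_mem (inv_mem ht') h1) ht'
      convert h3 using 1
      group
    · rw [e]; group

/-- **Own characteristic**: the Hall subgroups are pronormal. -/
theorem isPronormal_of_rgdAb {p : ℕ} [hp : Fact p.Prime] (hG : HasRGDAb p G) {H : Subgroup G}
    (hH : ¬ p ∣ H.index) : IsPronormal H :=
  isPronormal_iff.2 (pr_of_rgdAb hG H hH)

end Cfsg.Agent.H408.Hall.Own
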