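import Cfsg.Agent.H408.Hall.SpTwo
import Cfsg.Agent.H408.Hall.Own
import Cfsg.Agent.H408.Pron.Pos
import Cfsg.Agent.H716.RGDAb
import Cfsg.Prelude.Def_LieTypeChar

/-!
# Hall subgroups of even order of the symplectic groups are pronormal (helper408)

* `bRow_psp` : the `B`-row for `PSp_2m(q)`, `q` odd;
* `hp_psp'` : `HP p (PSp m F)`.
-/

set_option autoImplicit false
set_option linter.unusedSectionVars false

namespace Cfsg.Agent.H408.Hall.SpRow

open Quaternion Matrix Equiv Module Polynomial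
open Cfsg.Agent.H158.PronQ Cfsg.Agent.H158.PronMat Cfsg.Agent.H158.PronMono Cfsg.Agent.H158.PronSp
open Cfsg.Agent.H158.PronM2
open Cfsg.Agent.H165.RV
open scoped Pointwise

/-- the symplectic group in quaternionic form -/
abbrev GU (n : Type*) [Fintype n] [DecidableEq n] (F : Type*) [Field F] := Cfsg.Agent.H158.PronMat.GU n F

section

variable {F : Type} [Field F] [Finite F] {n : Type*} [Fintype n] [DecidableEq n]

/-- **all Hall `π`-subgroups of `Sp` are pronormal**, 2 not a square, `2 ∈ π`, `p ∉ π` -/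
theorem pr_all {p : ℕ} [hpp : Fact p.Prime] [CharP F p] (h2 : (2 : F) ≠ 0) (hns : ¬ IsSquare (2 : F)) {π : Set ℕ}
    (h2π : 2 ∈ π) (hpπ : p ∉ π) : ∀ H : Subgroup (GU n F), Cfsg.IsPiHall π H → ∀ g, Pr H g := by
  refine Sp.pr_of_mono h2 hns h2π fun T H hH hS => ?_
  by_cases h3 : 3 ∈ π
  · have h3F : (3 : F) ≠ 0 := by
      intro h
      have h1 : ((3 : ℕ) : F) = 0 := by exact_mod_cast h
      rw [CharP.cast_eq_zero_iff F p, Nat.prime_dvd_prime_iff_eq hpp.out Nat.prime_three] at h1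
      exact hpπ (h1 ▸ h3)
    exact SpThree.mono_of_dat h3F (SpTwo.dat (p := p) h2 hns T hS (fun hd => hpπ (hH.1 p hpp.out hd)))
      (hH.2 3 Nat.prime_three h3)
  · exact Sp.mono_of_three_notMem h2 hns h3 T hH hS

end

section

variable {G B : Type*} [Group G] [Group B]

/-- images, when the kernel is a 2-group -/
theorem pr_of_surjective [Finite G] {π : Set ℕ} (h2π : 2 ∈ π) (f : G →* B) (hf : Function.Surjective f)
    (hk : IsPGroup 2 f.ker) (h : ∀ H : Subgroup G, Cfsg.IsPiHall π H → ∀ g, Pr H g) :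
    ∀ H : Subgroup B, Cfsg.IsPiHall π H → Cfsg.IsPronormal H := by
  have : Fact (Nat.Prime 2) := ⟨Nat.prime_two⟩
  intro H hH g
  obtain ⟨g, rfl⟩ := hf g
  have hker : f.ker ≤ H.comap f := by
    intro x hx
    rw [MonoidHom.mem_ker] at hx
    rw [Subgroup.mem_comap, hx]
    exact one_mem _
  have h1 : Cfsg.IsPiHall π (H.comap f) := by
    refine ⟨fun q hq hd => ?_, fun q hq hqπ => ?_⟩
    · -- `q` divides `|H|` or `|ker f|`
      have h3 : Nat.card (H.comap f) = Nat.card ((H.comap f).map f) * Nat.card f.ker := by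
        have h4 := Subgroup.card_mul_index ((f.subgroupMap (H.comap f)).ker)
        rw [Subgroup.index_ker] at h4
        have h5 : Nat.card (f.subgroupMap (H.comap f)).range = Nat.card ((H.comap f).map f) := by
          rw [MonoidHom.range_eq_top.2 (f.subgroupMap_surjective (H.comap f))]
          exact Nat.card_congr Subgroup.topEquiv.toEquiv
        have h6 : Nat.card ((f.subgroupMap (H.comap f)).ker) = Nat.card f.ker := by
          refine Nat.card_congr ⟨fun x => ⟨x.1.1, ?_⟩, fun x => ⟨⟨x.1, hker x.2⟩, ?_⟩, fun x => rfl, fun x => rfl⟩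
          · have := x.2
            rw [MonoidHom.mem_ker] at this ⊢
            exact congrArg Subtype.val this
          · rw [MonoidHom.mem_ker]
            exact Subtype.ext x.2
        rw [h5, h6] at h4
        rw [← h4, mul_comm]
      rw [h3, Subgroup.map_comap_eq_self_of_surjective hf] at hd
      rcases (Nat.Prime.dvd_mul hq).1 hd with h4 | h4
      · exact hH.1 q hq h4
      · obtain ⟨m, hm⟩ := IsPGroup.iff_card.1 hk
        rw [hm] at h4
        have := (Nat.prime_dvd_prime_iff_eq hq Nat.prime_two).1 (hq.dvd_of_dvd_pow h4)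
        rw [this]
        exact h2π
    · rw [Subgroup.index_comap_of_surjective _ hf]
      exact hH.2 q hq hqπ
  have h0 := (isPronormal_iff.2 (h _ h1)) g
  obtain ⟨x, hx, he⟩ := h0
  have h2 : ∀ y : G, ((H.comap f).map (MulAut.conj y).toMonoidHom).map f =
      H.map (MulAut.conj (f y)).toMonoidHom := by
    intro y
    ext z
    constructor
    · rintro ⟨_, ⟨w, hw, rfl⟩, rfl⟩
      exact ⟨f w, hw, by simp⟩
    · rintro ⟨w, hw, rfl⟩
      obtain ⟨v, rfl⟩ := hf w
      exact ⟨_, ⟨v, hw, rfl⟩, by simp⟩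
  refine ⟨f x, ?_, ?_⟩
  · have h3 : f x ∈ ((H.comap f) ⊔ (H.comap f).map (MulAut.conj g).toMonoidHom).map f := ⟨x, hx, rfl⟩
    rw [Subgroup.map_sup, h2] at h3
    exact (sup_le_sup_right (Subgroup.map_comap_le f H) _) h3
  · rw [← h2, ← h2, he]

end

section

variable {F : Type} [Field F] [Finite F] {k : ℕ}

theorem two_ne_zero_of {p : ℕ} [hpp : Fact p.Prime] [CharP F p] (hp2 : p ≠ 2) : (2 : F) ≠ 0 := by
  intro h
  have h1 : ((2 : ℕ) : F) = 0 := by exact_mod_cast h
  rw [CharP.cast_eq_zero_iff F p, Nat.prime_dvd_prime_iff_eq hpp.out Nat.prime_two] at h1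
  exact hp2 h1

/-- **Hall `π`-subgroups of `PSp_2k(F)`**, `2 ∈ π`, `p ∉ π`, 2 not a square -/
theorem isPronormal_psp {S : Type*} [Group S] (e : S ≃* Cfsg.PSp k F) {p : ℕ} [hpp : Fact p.Prime] [CharP F p]
    (hp2 : p ≠ 2) (hns : ¬ IsSquare (2 : F)) {π : Set ℕ} (h2π : 2 ∈ π) (hpπ : p ∉ π) {H : Subgroup S}
    (hH : Cfsg.IsPiHall π H) : Cfsg.IsPronormal H := by
  have h2 := two_ne_zero_of (F := F) hp2
  obtain ⟨a, b, hab⟩ := exists_sq_add_sq (-1 : F)
  let f : GU (Fin k) F →* S := (e.symm : Cfsg.PSp k F →* S).comp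
    ((QuotientGroup.mk' (Subgroup.center (Matrix.symplecticGroup (Fin k) F))).comp (toSp hab))
  have hf : Function.Surjective f :=
    e.symm.surjective.comp ((QuotientGroup.mk'_surjective _).comp (toSp_surjective hab h2))
  have hfin : Finite (GU (Fin k) F) := inferInstance
  refine pr_of_surjective h2π f hf ?_ (fun H hH => pr_all (p := p) h2 hns h2π hpπ H hH) H hH
  -- the kernel
  intro x
  refine ⟨1, ?_⟩
  apply Subtype.ext
  rw [pow_one, Subgroup.coe_pow, Subgroup.coe_one]
  have hx : f x = 1 := x.2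
  have h1 : (QuotientGroup.mk' (Subgroup.center (Matrix.symplecticGroup (Fin k) F))) (toSp hab (x : GU (Fin k) F)) = 1 := by
    apply e.symm.injective
    rw [map_one]
    exact hx
  have h3 : toSp hab (x : GU (Fin k) F) ∈ Subgroup.center (Matrix.symplecticGroup (Fin k) F) :=
    (QuotientGroup.eq_one_iff _).1 h1
  obtain ⟨c, hc⟩ := (LieClassical.SympCenter.mem_center_iff k _).1 h3
  have h4 := SymplecticGroup.mem_iff.1 (toSp hab (x : GU (Fin k) F)).2
  rw [hc, Matrix.smul_mul, Matrix.one_mul, Matrix.transpose_smul, Matrix.transpose_one, Matrix.mul_smul, Matrix.mul_one,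
    smul_smul] at h4
  apply Subtype.ext
  apply Th_injective hab h2
  show Th a b ((x : GU (Fin k) F) ^ 2 : GU (Fin k) F).1 = Th a b 1
  have h5 : Th a b ((x : GU (Fin k) F) ^ 2 : GU (Fin k) F).1 = (c * c) • 1 := by
    have h6 : ((toSp hab ((x : GU (Fin k) F) ^ 2) : Matrix.symplecticGroup (Fin k) F) : Matrix _ _ F) =
        (toSp hab (x : GU (Fin k) F)).1 * (toSp hab (x : GU (Fin k) F)).1 := by
      rw [pow_two, map_mul]
      rfl
    refine h6.trans ?_
    rw [hc, Matrix.smul_mul, Matrix.one_mul, smul_smul]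
  rw [h5, Th_one]
  -- `c² = 1`, or the rank is zero
  have h7 := congrArg (fun M => M * Matrix.J (Fin k) F) h4
  simp only [Matrix.smul_mul, Matrix.J_squared] at h7
  rw [smul_neg, neg_inj] at h7
  exact h7

/-- pronormality of the subgroups of odd index gives the row -/
theorem bRow_of_po {S : Type*} [Group S] {π : Set ℕ} (h2π : 2 ∈ π) (h : Cfsg.Agent.H408.Pron.PO S) : BRow π S := by
  refine Or.inr fun H hH => h H ?_
  rw [← Nat.not_even_iff_odd, even_iff_two_dvd]
  exact hH.2 2 Nat.prime_two h2π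

/-- **The `B`-row for `PSp_2k(q)`, `q` odd.** -/
theorem bRow_psp {S : Type*} [Group S] [Finite S] {p : ℕ} [hpp : Fact p.Prime] (hp2 : p ≠ 2)
    (h : Cfsg.IsPSpChar p S) {π : Set ℕ} (h2π : 2 ∈ π) : BRow π S := by
  obtain ⟨F, _, _, _, m, hm, -, ⟨e⟩⟩ := h
  by_cases hs : IsSquare (2 : F)
  · exact bRow_of_po h2π (Cfsg.Agent.H408.Pron.PO.congr e.symm
      (Cfsg.Agent.H408.Pron.Pos.po_psp (two_ne_zero_of (F := F) hp2) (Or.inl hs)))
  · by_cases hpπ : p ∈ π
    · refine Or.inr fun H hH => Own.isPronormal_of_rgdAb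
        ((Cfsg.Agent.H716.RGDAb.ab_PSp (F := F) (m := m) (p := p) (by omega)).of_equiv e.symm) (hH.2 p hpp.out hpπ)
    · exact Or.inr fun H hH => isPronormal_psp e (p := p) hp2 hs h2π hpπ hH

/-- **`HP p (PSp k F)`** -/
theorem hp_psp {p : ℕ} [hpp : Fact p.Prime] [CharP F p] (hp2 : p ≠ 2) :
    Cfsg.Agent.H125.Hall.HP p (Cfsg.PSp k F) := by
  intro H hc he hp
  have hfin : Finite (Cfsg.PSp k F) := by
    have : Finite (Matrix.symplecticGroup (Fin k) F) := inferInstance
    exact Finite.of_surjective (QuotientGroup.mk' (Subgroup.center (Matrix.symplecticGroup (Fin k) F)))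
      (QuotientGroup.mk'_surjective _)
  by_cases hs : IsSquare (2 : F)
  · refine Cfsg.Agent.H408.Pron.Pos.po_psp (two_ne_zero_of (F := F) hp2) (Or.inl hs) H ?_
    exact Nat.Coprime.odd_of_left (Nat.Coprime.coprime_dvd_left (even_iff_two_dvd.1 he) hc)
  · refine isPronormal_psp (MulEquiv.refl _) (p := p) hp2 hs (π := {q | q ∣ Nat.card H}) (even_iff_two_dvd.1 he) hp ?_
    refine ⟨fun q _ hd => hd, fun q hq hqd hi => ?_⟩
    exact hq.one_lt.ne' (Nat.eq_one_of_dvd_coprimes hc hqd hi)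

end

end Cfsg.Agent.H408.Hall.SpRow
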