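import Cfsg.Agent.H408.Hall.RedTwo

/-!
# 2-elements with few eigenvalues in linear groups of order prime to the characteristic (helper408)

* `mem_pCore_of_aeval` (A): a 2-element `y` annihilated by a polynomial of degree at most `2 ^ j` has
  `y ^ 2 ^ j` in the 2-core;
* `mem_pCore_of_rank` (B): if the polynomial only has rank at most `r` at `y` and `t = y ^ 2 ^ j` is an involution
  inverting no nontrivial element `x` of odd order with `rank (x - 1) ≤ 2 r`, then `t` is in the 2-core.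
-/

set_option autoImplicit false

universe u

namespace Cfsg.Agent.H408.Hall.MTwo

open Cfsg Module Polynomial

theorem rank_add_le {K : Type*} [Field K] {n : ℕ} (A B : Matrix (Fin n) (Fin n) K) :
    (A + B).rank ≤ A.rank + B.rank := by
  unfold Matrix.rank
  refine le_trans (Submodule.finrank_mono (t := LinearMap.range A.mulVecLin ⊔ LinearMap.range B.mulVecLin) ?_)
    (Submodule.finrank_add_le_finrank_add_finrank _ _)
  rintro _ ⟨v, rfl⟩
  rw [Matrix.mulVecLin_add]
  exact Submodule.add_mem_sup ⟨v, rfl⟩ ⟨v, rfl⟩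

theorem eq_zero_of_rank {K : Type*} [Field K] {n : ℕ} {A : Matrix (Fin n) (Fin n) K} (h : A.rank = 0) : A = 0 := by
  unfold Matrix.rank at h
  rw [Submodule.finrank_eq_zero, LinearMap.range_eq_bot] at h
  rw [← Matrix.toLin'.map_eq_zero_iff]
  exact h

section

variable {G : Type u} [Group G] [Finite G]

/-- A normal subgroup without nontrivial elements of odd order lies in the 2-core. -/
theorem le_pCore {N : Subgroup G} [N.Normal] (h : ∀ x ∈ N, Odd (orderOf x) → x = 1) : N ≤ Cfsg.pCore 2 G := by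
  refine le_sSup ⟨inferInstance, ?_⟩
  intro x
  obtain ⟨k, m, hm, ho⟩ := Nat.exists_eq_two_pow_mul_odd (orderOf_pos (x : G)).ne'
  refine ⟨k, ?_⟩
  apply Subtype.ext
  rw [Subgroup.coe_pow, Subgroup.coe_one]
  refine h _ (pow_mem x.2 _) ?_
  rw [orderOf_pow, ho, Nat.gcd_eq_right (dvd_mul_right _ _), Nat.mul_div_cancel_left _ (pow_pos two_pos k)]
  exact hm

end

section

variable {p : ℕ} [Fact p.Prime] {F : Type*} [Field F] [Finite F] [CharP F p]
    {W : Type*} [AddCommGroup W] [Module F W] [FiniteDimensional F W]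
    {G : Type u} [Group G] [Finite G]

theorem pow_sub_one {k : Type*} [Field k] [CharP k 2] {n : ℕ} (A : Matrix (Fin n) (Fin n) k) (j : ℕ) :
    (A - 1) ^ 2 ^ j = A ^ 2 ^ j - 1 := by
  rcases Nat.eq_zero_or_pos n with rfl | hn
  · exact Subsingleton.elim _ _
  · have : Nonempty (Fin n) := ⟨⟨0, hn⟩⟩
    have : CharP (Matrix (Fin n) (Fin n) k) 2 := inferInstance
    have : ExpChar (Matrix (Fin n) (Fin n) k) 2 := ExpChar.prime Nat.prime_two
    rw [sub_pow_expChar_pow_of_commute _ _ (Commute.one_right A), one_pow]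

omit [Finite F] [Fact p.Prime] [CharP F p] in
theorem ker_le {σ : Representation F G W} (hσ : ∀ x, σ x = 1 → x = 1) {k : Type} [Field k] {n : ℕ}
    {τ : G →* Matrix (Fin n) (Fin n) k}
    (h1 : ∀ x : G, Odd (orderOf x) → finrank F (LinearMap.range (σ x - 1)) ≤ (τ x - 1).rank) {x : G} (hx : τ x = 1) :
    x ∈ Cfsg.pCore 2 G := by
  refine le_pCore (N := τ.ker) (fun y hy ho => hσ y ?_) hx
  have h2 := h1 y ho
  rw [MonoidHom.mem_ker] at hy
  rw [hy, sub_self, Matrix.rank_zero, Nat.le_zero, Submodule.finrank_eq_zero, LinearMap.range_eq_bot] at h2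
  exact sub_eq_zero.1 h2

/-- **(A)** -/
theorem mem_pCore_of_aeval (hG : ¬ p ∣ Nat.card G) (σ : Representation F G W) (hσ : ∀ x, σ x = 1 → x = 1)
    {y : G} (hy : ∃ i : ℕ, y ^ 2 ^ i = 1) {g : F[X]} (hg0 : g ≠ 0) {j : ℕ} (hg : g.natDegree ≤ 2 ^ j)
    (h : aeval (σ y) g = 0) : y ^ 2 ^ j ∈ Cfsg.pCore 2 G := by
  obtain ⟨k, hk, hk2, n, τ, h1, h2⟩ := RedTwo.exists_char_two hG σ
  refine ker_le hσ h1 ?_
  have h3 := h2 y g hg0 hy
  rw [h, LinearMap.range_zero, finrank_bot, Nat.le_zero] at h3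
  replace h3 := eq_zero_of_rank h3
  rw [map_pow, ← sub_eq_zero, ← pow_sub_one, ← Nat.add_sub_cancel' hg, pow_add, h3, zero_mul]

/-- **(B)** -/
theorem mem_pCore_of_rank (hG : ¬ p ∣ Nat.card G) (σ : Representation F G W)
    {y : G} {g : F[X]} (hg0 : g ≠ 0) {j r : ℕ} (hg : g.natDegree ≤ 2 ^ j)
    (h : finrank F (LinearMap.range (aeval (σ y) g)) ≤ r) (ht : y ^ 2 ^ (j + 1) = 1)
    (hinv : ∀ x : G, Odd (orderOf x) → y ^ 2 ^ j * x * (y ^ 2 ^ j)⁻¹ = x⁻¹ →
      finrank F (LinearMap.range (σ x - 1)) ≤ 2 * r → x = 1) :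
    y ^ 2 ^ j ∈ Cfsg.pCore 2 G := by
  obtain ⟨k, hk, hk2, n, τ, h1, h2⟩ := RedTwo.exists_char_two hG σ
  have h3 := h2 y g hg0 ⟨_, ht⟩
  set t := y ^ 2 ^ j with ht0
  have htt : t * t = 1 := by rw [ht0, ← pow_add, ← two_mul, ← pow_succ', ht]
  have h4 : (τ t - 1).rank ≤ r := by
    refine le_trans ?_ (h3.trans h)
    rw [ht0, map_pow, ← pow_sub_one, ← Nat.add_sub_cancel' hg, pow_add]
    exact Matrix.rank_mul_le_left _ _
  by_contra hcon
  have h5 : ¬ IsPGroup 2 (Subgroup.normalClosure {t} : Subgroup G) := by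
    intro h6
    exact hcon ((le_sSup ⟨Subgroup.normalClosure_normal, h6⟩ : Subgroup.normalClosure {t} ≤ Cfsg.pCore 2 G)
      (Subgroup.subset_normalClosure (by simp)))
  obtain ⟨x, hx1, hxo, hxt⟩ := Cfsg.Agent.Involutions.BaerSuzuki.exists_odd_inverted t htt h5
  refine hx1 (hinv x hxo hxt ((h1 x hxo).trans ?_))
  -- a square root of `x`
  obtain ⟨m, hm⟩ := hxo
  set z := x ^ (m + 1) with hz
  have hzz : z * z = x := by
    have h6 : x ^ (2 * m + 1) = 1 := by rw [← hm, pow_orderOf_eq_one]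
    rw [hz, ← pow_add]
    have : m + 1 + (m + 1) = (2 * m + 1) + 1 := by ring
    rw [this, pow_succ, h6, one_mul]
  have hzt : t * z * t⁻¹ = z⁻¹ := by
    rw [hz, ← conj_pow, hxt, inv_pow]
  have h6 : z⁻¹ * t * z = t * x := by
    have : z⁻¹ * t = t * z := by rw [← hzt, inv_mul_cancel_right]
    rw [this, mul_assoc, hzz]
  have h7 : τ x - 1 = (τ t - 1) * τ (t * x) + (τ (t * x) - 1) := by
    rw [sub_mul, one_mul, sub_add_sub_cancel, ← map_mul, ← mul_assoc, htt, one_mul]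
  have h8 : τ (t * x) - 1 = τ z⁻¹ * (τ t - 1) * τ z := by
    rw [mul_sub, sub_mul, ← map_mul, ← map_mul, mul_one, ← map_mul, h6, inv_mul_cancel, map_one]
  rw [h7]
  refine (rank_add_le _ _).trans ?_
  rw [two_mul]
  refine add_le_add ((Matrix.rank_mul_le_left _ _).trans h4) ?_
  rw [h8]
  exact (Matrix.rank_mul_le_left _ _).trans ((Matrix.rank_mul_le_right _ _).trans h4)

end

end Cfsg.Agent.H408.Hall.MTwo
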