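import Cfsg.Agent.H671.KGV.Lift
import Cfsg.Agent.Involutions.BaerSuzuki

/-!
# Reduction modulo 2 of a `p'`-group of matrices in characteristic `p` (helper408)

`exists_char_two`: a representation `σ` in characteristic `p` of a finite group of order prime to `p` has a
"reduction modulo 2": a representation `τ` in characteristic 2 with
`rank (σ x - 1) ≤ rank (τ x - 1)` for `x` of odd order and
`rank ((τ y - 1) ^ deg g) ≤ rank (g (σ y))` for `y` a 2-element and `g` a nonzero polynomial.
-/

set_option autoImplicit false

universe u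

namespace Cfsg.Agent.H408.Hall.RedTwo

open Cfsg Module Polynomial IsLocalRing Cfsg.Agent.H657 Cfsg.Agent.H671.KGV Cfsg.Agent.H644.KGV

attribute [local instance] Above.isAlgClosed

/-! ### valuation subrings -/

/-- The rank of the residue of a matrix. -/
theorem rank_residue_le {V : ValuationSubring ℂ} {m n : Type*} [Fintype m] [Fintype n]
    (A : Matrix m n V) : (A.map (residue V)).rank ≤ (A.map (algebraMap V ℂ)).rank := by
  classical
  obtain ⟨κ, a, ha, hsp, hli⟩ := exists_linearIndependent' (ResidueField V) (A.map (residue V)).col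
  have hfin : Finite κ := Finite.of_injective a ha
  have : Fintype κ := Fintype.ofFinite κ
  have h1 : (A.map (residue V)).rank = Fintype.card κ := by
    rw [Matrix.rank_eq_finrank_span_cols, ← hsp, finrank_span_eq_card hli]
  have h2 : LinearIndependent ℂ (fun i => (A.map (algebraMap V ℂ)).col (a i)) := by
    rw [Fintype.linearIndependent_iff]
    intro c hc
    by_contra hcon
    push Not at hcon
    obtain ⟨i1, hi1⟩ := hcon
    have : Nonempty κ := ⟨i1⟩
    obtain ⟨i0, hi0⟩ := Finite.exists_max (fun i => V.valuation (c i))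
    have hc0 : c i0 ≠ 0 := by
      intro h0
      have h3 := hi0 i1
      rw [h0, map_zero] at h3
      exact hi1 ((map_eq_zero V.valuation).1 (le_antisymm h3 zero_le))
    have hd : ∀ i, c i / c i0 ∈ V := by
      intro i
      rw [← V.valuation_le_one_iff, map_div₀]
      exact div_le_one_of_le₀ (hi0 i) zero_le
    rw [Fintype.linearIndependent_iff] at hli
    have h3 := hli (fun i => residue V ⟨c i / c i0, hd i⟩) ?_ i0
    · have h4 : (⟨c i0 / c i0, hd i0⟩ : V) = 1 := Subtype.ext (div_self hc0)
      rw [h4, map_one] at h3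
      exact one_ne_zero h3
    · funext j
      have h5 : ∑ i, (⟨c i / c i0, hd i⟩ : V) * A j (a i) = 0 := by
        apply Subtype.ext
        have h6 := congrFun hc j
        rw [Finset.sum_apply] at h6
        have h7 : ∑ i, c i * ((A j (a i) : V) : ℂ) = 0 := h6
        push_cast
        have h8 : ∑ i, c i / c i0 * ((A j (a i) : V) : ℂ) = (∑ i, c i * ((A j (a i) : V) : ℂ)) / c i0 := by
          rw [Finset.sum_div]
          exact Finset.sum_congr rfl fun i _ => by ring
        rw [h8, h7, zero_div]
      have h9 := congrArg (residue V) h5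
      rw [map_sum, map_zero] at h9
      rw [Finset.sum_apply]
      simp only [map_mul] at h9
      exact h9
  rw [h1, Matrix.rank_eq_finrank_span_cols, ← finrank_span_eq_card h2]
  refine Submodule.finrank_mono (Submodule.span_mono ?_)
  rintro _ ⟨i, rfl⟩
  exact ⟨a i, rfl⟩

/-! ### ranks -/

variable {K : Type*} [Field K] {W : Type*} [AddCommGroup W] [Module K W] [FiniteDimensional K W]

/-- Coprime factors of an annihilating polynomial. -/
theorem finrank_range_add (f : Module.End K W) {p q : K[X]} (hpq : IsCoprime p q)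
    (h0 : aeval f (p * q) = 0) :
    finrank K (LinearMap.range (aeval f p)) + finrank K (LinearMap.range (aeval f q)) = finrank K W := by
  have h1 := Polynomial.sup_ker_aeval_eq_ker_aeval_mul_of_coprime f hpq
  have h2 := Polynomial.disjoint_ker_aeval_of_isCoprime f hpq
  rw [h0, LinearMap.ker_zero] at h1
  have h3 := Submodule.finrank_sup_add_finrank_inf_eq (LinearMap.ker (aeval f p)) (LinearMap.ker (aeval f q))
  rw [h1, h2.eq_bot, finrank_top, finrank_bot] at h3
  have h4 := LinearMap.finrank_range_add_finrank_ker (aeval f p)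
  have h5 := LinearMap.finrank_range_add_finrank_ker (aeval f q)
  omega

omit [FiniteDimensional K W] in
theorem isCoprime_geom {m : ℕ} (hm : (m : K) ≠ 0) :
    IsCoprime (X - 1 : K[X]) (∑ i ∈ Finset.range m, (X : K[X]) ^ i) := by
  have h1 : (X - 1 : K[X]) = X - C 1 := by rw [map_one]
  rw [h1, (Polynomial.irreducible_X_sub_C (1 : K)).coprime_iff_not_dvd, dvd_iff_isRoot, IsRoot.def,
    eval_finsetSum]
  simpa using hm

/-- The rank of `f - 1` for `f` of finite order prime to the characteristic. -/
theorem finrank_sub_one (f : Module.End K W) {m : ℕ} (hm : (m : K) ≠ 0) (hf : f ^ m = 1) :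
    finrank K (LinearMap.range (f - 1)) +
      finrank K (LinearMap.range (aeval f (∑ i ∈ Finset.range m, (X : K[X]) ^ i))) = finrank K W := by
  have h1 := finrank_range_add f (isCoprime_geom hm) (by
    rw [mul_comm, geom_sum_mul, map_sub, map_pow, aeval_X, map_one, hf, sub_self])
  rwa [map_sub, aeval_X, map_one] at h1

theorem finrank_ker_mul (f : Module.End K W) {p q : K[X]} (hpq : IsCoprime p q) :
    finrank K (LinearMap.ker (aeval f (p * q))) =
      finrank K (LinearMap.ker (aeval f p)) + finrank K (LinearMap.ker (aeval f q)) := by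
  have h1 := Polynomial.sup_ker_aeval_eq_ker_aeval_mul_of_coprime f hpq
  have h2 := Polynomial.disjoint_ker_aeval_of_isCoprime f hpq
  have h3 := Submodule.finrank_sup_add_finrank_inf_eq (LinearMap.ker (aeval f p)) (LinearMap.ker (aeval f q))
  rw [h1, h2.eq_bot, finrank_bot] at h3
  omega

theorem finrank_ker_prod (f : Module.End K W) (R : Finset K) :
    finrank K (LinearMap.ker (aeval f (∏ c ∈ R, (X - C c)))) = ∑ c ∈ R, finrank K (f.eigenspace c) := by
  classical
  induction R using Finset.induction_on with
  | empty =>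
    have h0 : LinearMap.ker (aeval f (1 : K[X])) = ⊥ := by
      rw [map_one, Module.End.one_eq_id, LinearMap.ker_id]
    rw [Finset.prod_empty, Finset.sum_empty, h0, finrank_bot]
  | insert c R hc ih =>
    rw [Finset.prod_insert hc, finrank_ker_mul, ih, Finset.sum_insert hc]
    · have h0 : LinearMap.ker (aeval f (X - C c)) = f.eigenspace c := by
        rw [Module.End.eigenspace_def, map_sub, aeval_X, aeval_C, Algebra.algebraMap_eq_smul_one]
      rw [h0]
    · refine IsCoprime.prod_right fun d hd => ?_
      have hne : c ≠ d := fun h => hc (h ▸ hd)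
      exact isCoprime_X_sub_C_of_isUnit_sub (sub_ne_zero.2 hne).isUnit

omit [FiniteDimensional K W] in
theorem isSemisimple_of_pow (f : Module.End K W) {m : ℕ} (hm : (m : K) ≠ 0) (hf : f ^ m = 1) :
    f.IsSemisimple :=
  Module.End.isSemisimple_of_squarefree_aeval_eq_zero (p := X ^ m - 1)
    (X_pow_sub_one_separable_iff.2 hm).squarefree (by rw [map_sub, map_pow, aeval_X, map_one, hf, sub_self])

theorem finrank_eigenspace (f : Module.End K W) {m : ℕ} (hm : (m : K) ≠ 0) (hf : f ^ m = 1) (c : K) :
    finrank K (f.eigenspace c) = f.charpoly.rootMultiplicity c := by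
  rw [← (isSemisimple_of_pow f hm hf).isFinitelySemisimple.maxGenEigenspace_eq_eigenspace,
    LinearMap.finrank_maxGenEigenspace_eq]

theorem roots_charpoly_aeval [IsAlgClosed K] (f : Module.End K W) (g : K[X]) :
    (aeval f g).charpoly.roots = f.charpoly.roots.map fun r => g.eval r := by
  classical
  have h1 : (aeval f g).charpoly = ((f.charpoly.roots.map fun r => g.eval r).map fun a => X - C a).prod := by
    have : Infinite K := IsAlgClosed.instInfinite
    refine Polynomial.funext fun t => ?_
    rw [LinearMap.eval_charpoly, eval_multiset_prod, Multiset.map_map, Multiset.map_map]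
    have h2 : algebraMap K (Module.End K W) t - aeval f g = aeval f (C t - g) := by
      rw [map_sub, aeval_C]
    rw [h2, det_aeval]
    congr 1
    refine Multiset.map_congr rfl fun r _ => ?_
    simp
  rw [h1, roots_multiset_prod_X_sub_C]

open Classical in
/-- The nullity of a polynomial in an operator is at most the number of eigenvalues which are roots. -/
theorem finrank_ker_aeval_le [IsAlgClosed K] (f : Module.End K W) (g : K[X]) :
    finrank K (LinearMap.ker (aeval f g)) ≤ (f.charpoly.roots.filter fun r => g.eval r = 0).card := by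
  have h1 := LinearMap.finrank_eigenspace_le (aeval f g) 0
  rw [Module.End.eigenspace_zero, ← count_roots, roots_charpoly_aeval, Multiset.count_map] at h1
  refine h1.trans (le_of_eq ?_)
  congr 1
  exact Multiset.filter_congr fun r _ => eq_comm

open Classical in
/-- The nullity of a product of linear factors for an operator of finite order. -/
theorem card_le_finrank_ker [IsAlgClosed K] (f : Module.End K W) {m : ℕ} (hm : (m : K) ≠ 0) (hf : f ^ m = 1)
    (R : Finset K) :
    (f.charpoly.roots.filter fun r => r ∈ R).card = finrank K (LinearMap.ker (aeval f (∏ c ∈ R, (X - C c)))) := by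
  rw [finrank_ker_prod]
  have h1 : ∀ c ∈ R, finrank K (f.eigenspace c) = f.charpoly.roots.count c := fun c _ => by
    rw [finrank_eigenspace f hm hf, count_roots]
  rw [Finset.sum_congr rfl h1]
  generalize f.charpoly.roots = s
  induction s using Multiset.induction_on with
  | empty => simp
  | cons a s ih =>
    simp only [Multiset.count_cons, Finset.sum_add_distrib, Multiset.filter_cons, Multiset.card_add, ih]
    by_cases ha : a ∈ R
    · simp [ha, add_comm]
    · simp only [ha, if_false, Multiset.card_zero, zero_add]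
      have : ∑ x ∈ R, (if x = a then 1 else 0) = 0 := by
        refine Finset.sum_eq_zero fun x hx => if_neg ?_
        rintro rfl
        exact ha hx
      rw [this, add_zero]

/-! ### from characteristic 0 to the residue field -/

/-- A complex representation has a reduction modulo the maximal ideal of `V` for which the ranks of the
polynomials in an element do not increase. -/
theorem exists_residue_rep {G : Type*} [Group G] [Finite G] (V : ValuationSubring ℂ)
    {U : Type*} [AddCommGroup U] [Module ℂ U] [FiniteDimensional ℂ U] (ρ : Representation ℂ G U) :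
    ∃ τ : G →* Matrix (Fin (finrank ℂ U)) (Fin (finrank ℂ U)) (ResidueField V), ∀ (y : G) (P : V[X]),
      (aeval (τ y) (P.map (residue V))).rank ≤
        finrank ℂ (LinearMap.range (aeval (ρ y) (P.map (algebraMap V ℂ)))) := by
  classical
  obtain ⟨T, b, hb⟩ := Reduce.exists_integral_basis V ρ
  let e : T ≃ Fin (finrank ℂ U) := Fintype.equivOfCardEq (by rw [Fintype.card_fin, Module.finrank_eq_card_basis b])
  let A : G → Matrix T T V := fun g => Matrix.of fun i j => ⟨b.repr (ρ g (b j)) i, hb g i j⟩
  have hA : ∀ g, (A g).map (algebraMap V ℂ) = LinearMap.toMatrix b b (ρ g) := by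
    intro g
    ext i j
    rw [LinearMap.toMatrix_apply]
    rfl
  have hinj : Function.Injective (fun M : Matrix T T V => M.map (algebraMap V ℂ)) :=
    Matrix.map_injective Subtype.val_injective
  have hA1 : A 1 = 1 := by
    apply hinj
    show (A 1).map (algebraMap V ℂ) = (1 : Matrix T T V).map (algebraMap V ℂ)
    rw [hA, map_one, Matrix.map_one _ (map_zero _) (map_one _)]
    exact LinearMap.toMatrix_id b
  have hAm : ∀ g h, A (g * h) = A g * A h := by
    intro g h
    apply hinj
    show (A (g * h)).map (algebraMap V ℂ) = (A g * A h).map (algebraMap V ℂ)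
    rw [Matrix.map_mul, hA, hA, hA, map_mul]
    exact LinearMap.toMatrix_mul b (ρ g) (ρ h)
  let τ₀ : G →* Matrix T T (ResidueField V) :=
    { toFun := fun g => (A g).map (residue V)
      map_one' := by rw [hA1, Matrix.map_one _ (map_zero _) (map_one _)]
      map_mul' := fun g h => by rw [hAm, Matrix.map_mul] }
  let E : Matrix T T (ResidueField V) ≃ₐ[ResidueField V]
      Matrix (Fin (finrank ℂ U)) (Fin (finrank ℂ U)) (ResidueField V) := Matrix.reindexAlgEquiv _ _ e
  refine ⟨E.toMulEquiv.toMonoidHom.comp τ₀, fun y P => ?_⟩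
  have h1 : aeval ((E.toMulEquiv.toMonoidHom.comp τ₀) y) (P.map (residue V)) =
      E (aeval ((A y).map (residue V)) (P.map (residue V))) :=
    aeval_algHom_apply E.toAlgHom ((A y).map (residue V)) (P.map (residue V))
  rw [h1]
  have h2 : (E (aeval ((A y).map (residue V)) (P.map (residue V)))).rank =
      (aeval ((A y).map (residue V)) (P.map (residue V))).rank := Matrix.rank_reindex e e _
  rw [h2]
  have h3 : aeval ((A y).map (residue V)) (P.map (residue V)) = (aeval (A y) P).map (residue V) := by
    have := Polynomial.map_aeval_eq_aeval_map (φ := residue V) (ψ := (residue V).mapMatrix) (by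
      ext c i j
      simp [Matrix.algebraMap_matrix_apply]
      split_ifs <;> simp) P (A y)
    exact this.symm
  have h4 : (aeval (A y) P).map (algebraMap V ℂ) = aeval ((A y).map (algebraMap V ℂ)) (P.map (algebraMap V ℂ)) := by
    exact Polynomial.map_aeval_eq_aeval_map (φ := algebraMap V ℂ) (ψ := (algebraMap V ℂ).mapMatrix) (by
      ext c i j
      simp [Matrix.algebraMap_matrix_apply]
      split_ifs <;> simp) P (A y)
  rw [h3]
  refine (rank_residue_le _).trans (le_of_eq ?_)
  rw [h4, hA]
  have h5 : aeval (LinearMap.toMatrix b b (ρ y)) (P.map (algebraMap V ℂ)) =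
      LinearMap.toMatrix b b (aeval (ρ y) (P.map (algebraMap V ℂ))) :=
    aeval_algHom_apply (LinearMap.toMatrixAlgEquiv b).toAlgHom (ρ y) (P.map (algebraMap V ℂ))
  rw [h5, Matrix.rank_eq_finrank_range_toLin _ b b, Matrix.toLin_toMatrix]

theorem rank_aeval_eq {n : ℕ} (A : Matrix (Fin n) (Fin n) K) (P : K[X]) :
    (aeval A P).rank = finrank K (LinearMap.range (aeval (Matrix.toLin' A) P)) := by
  have h5 : aeval (Matrix.toLin' A) P = Matrix.toLin' (aeval A P) :=
    aeval_algHom_apply (Matrix.toLinAlgEquiv' : Matrix (Fin n) (Fin n) K ≃ₐ[K] _).toAlgHom A P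
  rw [h5, Matrix.rank_eq_finrank_range_toLin _ (Pi.basisFun K _) (Pi.basisFun K _)]
  rfl

theorem rank_sub_one {n : ℕ} (A : Matrix (Fin n) (Fin n) K) {m : ℕ} (hm : (m : K) ≠ 0) (hA : A ^ m = 1) :
    (A - 1).rank + (aeval A (∑ i ∈ Finset.range m, (X : K[X]) ^ i)).rank = n := by
  have h1 := finrank_sub_one (Matrix.toLin' A) hm (by
    rw [← Matrix.toLin'_pow, hA, Matrix.toLin'_one]
    rfl)
  have h2 := rank_aeval_eq A (X - 1)
  rw [map_sub, map_sub, aeval_X, map_one, aeval_X, map_one] at h2
  rw [rank_aeval_eq, h2, h1, finrank_fin_fun]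

/-! ### from characteristic `p` to characteristic 0 -/

open scoped TensorProduct

/-- extension of scalars of a representation -/
noncomputable def ext {F : Type*} [Field F] {G : Type*} [Group G] {W : Type*} [AddCommGroup W] [Module F W]
    (k : Type*) [Field k] [Algebra F k] (ρ : Representation F G W) : Representation k G (k ⊗[F] W) where
  toFun g := (ρ g).baseChange k
  map_one' := by
    rw [map_one]
    exact LinearMap.baseChange_id
  map_mul' a b := by
    rw [map_mul]
    exact LinearMap.baseChange_comp _ _

theorem isEig_character {G : Type*} [Group G] {U : Type*} [AddCommGroup U] [Module ℂ U] [FiniteDimensional ℂ U]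
    (ρ : Representation ℂ G U) (g : G) : IsEig ρ.character g (LinearMap.charpoly (ρ g)).roots := by
  refine ⟨fun z hz => root_pow ρ (pow_orderOf_eq_one g) hz, fun i => ?_⟩
  rw [← roots_charpoly_pow, ← map_pow]
  exact Module.End.trace_eq_sum_roots_charpoly_of_splits (IsAlgClosed.splits _)

/-- **The lift to characteristic 0** of a representation in characteristic `p` of a group of order prime
to `p`. -/
theorem exists_lift_rep {p : ℕ} [Fact p.Prime] {F : Type*} [Field F] [Finite F] [CharP F p]
    {W : Type*} [AddCommGroup W] [Module F W] [FiniteDimensional F W]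
    {G : Type u} [Group G] [Finite G] (hG : ¬ p ∣ Nat.card G) (σ : Representation F G W) :
    ∃ (n : ℕ) (ρ : Representation ℂ G (Fin n → ℂ)), n = finrank F W ∧
      (∀ x : G, finrank ℂ (Module.End.eigenspace (ρ x) 1) = finrank F (Module.End.eigenspace (σ x) 1)) ∧
      ∀ (y : G) (g : F[X]), g ≠ 0 → ∃ R : Finset ℂ, R.card ≤ g.natDegree ∧ (∀ c ∈ R, c ^ orderOf y = 1) ∧
        finrank F (LinearMap.ker (aeval (σ y) g)) ≤
          finrank ℂ (LinearMap.ker (aeval (ρ y) (∏ c ∈ R, (X - C c)))) := by
  classical
  have hp : p.Prime := Fact.out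
  obtain ⟨M, hM⟩ := Cfsg.Agent.Blocks.ExistsModular.exists_isPModular hp
  obtain ⟨V, hV⟩ := exists_above hM
  have hchar : CharP (ResidueField V) p := hV.charP hM
  let _ : Algebra (ZMod p) (ResidueField V) := ZMod.algebra _ p
  let _ : Algebra (ZMod p) F := ZMod.algebra _ p
  have : Algebra.IsAlgebraic (ZMod p) F := inferInstance
  let φ : F →ₐ[ZMod p] ResidueField V := IsAlgClosed.lift
  let _ : Algebra F (ResidueField V) := φ.toRingHom.toAlgebra
  set σ' := ext (ResidueField V) σ with hσ'
  have hinj : Function.Injective (algebraMap F (ResidueField V)) := (algebraMap F (ResidueField V)).injective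
  have hreg : ∀ g : G, ¬ p ∣ orderOf g := fun g h => hG (h.trans (orderOf_dvd_natCard g))
  have hcp : ∀ g, LinearMap.charpoly (σ' g) = (LinearMap.charpoly (σ g)).map (algebraMap F (ResidueField V)) :=
    fun g => LinearMap.charpoly_baseChange (σ g) (ResidueField V)
  obtain ⟨n, ρ, hρ⟩ := Cfsg.Agent.H699.IBrLift.isCharacter_bc hM hV hG σ'
  have heig : ∀ g, (LinearMap.charpoly (ρ g)).roots = (LinearMap.charpoly (σ' g)).roots.map (lift p) := fun g =>
    isEig_unique (isEig_character ρ g) (by rw [hρ]; exact isEig_bc σ' (hreg g))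
  have hn : n = finrank F W := by
    have h1 := congrArg Multiset.card (heig 1)
    rw [Multiset.card_map, IsAlgClosed.card_roots_eq_natDegree, IsAlgClosed.card_roots_eq_natDegree,
      LinearMap.charpoly_natDegree, LinearMap.charpoly_natDegree, finrank_fin_fun,
      Module.finrank_baseChange] at h1
    exact h1
  have hF : ∀ x : G, ((orderOf x : ℕ) : F) ≠ 0 := fun x h => hreg x ((CharP.cast_eq_zero_iff F p _).1 h)
  have hC : ∀ x : G, ((orderOf x : ℕ) : ℂ) ≠ 0 := fun x => Nat.cast_ne_zero.2 (orderOf_pos x).ne'
  have hσp : ∀ x : G, σ x ^ orderOf x = 1 := fun x => by rw [← map_pow, pow_orderOf_eq_one, map_one]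
  have hρp : ∀ x : G, ρ x ^ orderOf x = 1 := fun x => by rw [← map_pow, pow_orderOf_eq_one, map_one]
  refine ⟨n, ρ, hn, fun x => ?_, fun y g hg => ?_⟩
  · have h2 : (LinearMap.charpoly (σ x)).rootMultiplicity 1 = (LinearMap.charpoly (σ' x)).roots.count 1 := by
      rw [count_roots, hcp, ← map_one (algebraMap F (ResidueField V)), ← Polynomial.eq_rootMultiplicity_map hinj 1]
    rw [finrank_eigenspace (ρ x) (hC x) (hρp x), finrank_eigenspace (σ x) (hF x) (hσp x), h2,
      ← count_roots, heig, Multiset.count_map, Multiset.count, Multiset.countP_eq_card_filter]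
    congr 1
    refine Multiset.filter_congr fun r hr => ⟨fun h => ?_, fun h => ?_⟩
    · exact (lift_eq_one (root_isRU σ' (hreg x) hr) h.symm).symm
    · rw [← h, lift_one]
  · set S := (LinearMap.charpoly (σ' y)).roots.filter
      (fun r => (g.map (algebraMap F (ResidueField V))).eval r = 0) with hS
    refine ⟨(S.map (lift p)).toFinset, ?_, ?_, ?_⟩
    · have h1 : (S.map (lift p)).toFinset ⊆
          (g.map (algebraMap F (ResidueField V))).roots.toFinset.image (lift p) := by
        intro c hc
        rw [Multiset.mem_toFinset, Multiset.mem_map] at hc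
        obtain ⟨r, hr, rfl⟩ := hc
        rw [hS, Multiset.mem_filter] at hr
        refine Finset.mem_image_of_mem _ ?_
        rw [Multiset.mem_toFinset, mem_roots (by rwa [Ne, Polynomial.map_eq_zero])]
        exact hr.2
      refine (Finset.card_le_card h1).trans (Finset.card_image_le.trans
        ((Multiset.toFinset_card_le _).trans ((card_roots' _).trans ?_)))
      rw [natDegree_map]
    · intro c hc
      rw [Multiset.mem_toFinset, Multiset.mem_map] at hc
      obtain ⟨r, hr, rfl⟩ := hc
      rw [hS, Multiset.mem_filter] at hr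
      have h2 : lift p r ∈ (LinearMap.charpoly (ρ y)).roots := by
        rw [heig]
        exact Multiset.mem_map_of_mem _ hr.1
      exact root_pow ρ (pow_orderOf_eq_one y) h2
    · rw [← card_le_finrank_ker (ρ y) (hC y) (hρp y), heig, Multiset.filter_map, Multiset.card_map]
      have h1 := LinearMap.finrank_eigenspace_le (aeval (σ y) g) 0
      rw [Module.End.eigenspace_zero] at h1
      have h4 : ∀ f : F[X], aeval (σ' y) (f.map (algebraMap F (ResidueField V))) =
          (aeval (σ y) f).baseChange (ResidueField V) := by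
        intro f
        rw [aeval_map_algebraMap]
        exact (aeval_algHom_apply (Module.End.baseChangeHom F (ResidueField V) W) (σ y) f)
      have h2 : (aeval (σ y) g).charpoly.rootMultiplicity 0 =
          (LinearMap.charpoly (aeval (σ' y) (g.map (algebraMap F (ResidueField V))))).roots.count 0 := by
        rw [count_roots, h4, LinearMap.charpoly_baseChange,
          ← map_zero (algebraMap F (ResidueField V)), ← Polynomial.eq_rootMultiplicity_map hinj 0]
      rw [h2, roots_charpoly_aeval, Multiset.count_map] at h1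
      refine h1.trans (Multiset.card_le_card (Multiset.le_filter.2 ⟨Multiset.filter_le _ _, fun r hr => ?_⟩))
      rw [Multiset.mem_filter] at hr
      show lift p r ∈ (S.map (lift p)).toFinset
      rw [Multiset.mem_toFinset]
      refine Multiset.mem_map_of_mem _ ?_
      rw [hS, Multiset.mem_filter]
      exact ⟨hr.1, hr.2.symm⟩

/-- **Reduction modulo 2.** -/
theorem exists_char_two {p : ℕ} [Fact p.Prime] {F : Type*} [Field F] [Finite F] [CharP F p]
    {W : Type*} [AddCommGroup W] [Module F W] [FiniteDimensional F W]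
    {G : Type u} [Group G] [Finite G] (hG : ¬ p ∣ Nat.card G) (σ : Representation F G W) :
    ∃ (k : Type) (_ : Field k) (_ : CharP k 2) (n : ℕ) (τ : G →* Matrix (Fin n) (Fin n) k),
      (∀ x : G, Odd (orderOf x) → finrank F (LinearMap.range (σ x - 1)) ≤ (τ x - 1).rank) ∧
      ∀ (y : G) (g : F[X]), g ≠ 0 → (∃ j : ℕ, y ^ 2 ^ j = 1) →
        ((τ y - 1) ^ g.natDegree).rank ≤ finrank F (LinearMap.range (aeval (σ y) g)) := by
  classical
  obtain ⟨n, ρ, hn, h1, h2⟩ := exists_lift_rep hG σ
  obtain ⟨M, hM⟩ := Cfsg.Agent.Blocks.ExistsModular.exists_isPModular Nat.prime_two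
  obtain ⟨V, hV⟩ := exists_above hM
  have hchar : CharP (ResidueField V) 2 := hV.charP hM
  obtain ⟨τ, hτ⟩ := exists_residue_rep V ρ
  have hn' : finrank ℂ (Fin n → ℂ) = n := finrank_fin_fun ℂ
  refine ⟨ResidueField V, inferInstance, hchar, finrank ℂ (Fin n → ℂ), τ, fun x hx => ?_, fun y g hg hy => ?_⟩
  · have h3 := rank_sub_one (τ x) (m := orderOf x) (K := ResidueField V) (by
      intro h
      rw [CharP.cast_eq_zero_iff (ResidueField V) 2] at h
      exact (Nat.not_even_iff_odd.2 hx) (even_iff_two_dvd.2 h)) (by rw [← map_pow, pow_orderOf_eq_one, map_one])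
    have h4 := finrank_sub_one (K := ℂ) (ρ x) (m := orderOf x) (Nat.cast_ne_zero.2 (orderOf_pos x).ne')
      (by rw [← map_pow, pow_orderOf_eq_one, map_one])
    have h5 := hτ x (∑ i ∈ Finset.range (orderOf x), (X : V[X]) ^ i)
    have e1 : (∑ i ∈ Finset.range (orderOf x), (X : V[X]) ^ i).map (residue V) =
        ∑ i ∈ Finset.range (orderOf x), (X : (ResidueField V)[X]) ^ i := by
      rw [Polynomial.map_sum]
      exact Finset.sum_congr rfl fun i _ => by rw [Polynomial.map_pow, Polynomial.map_X]
    have e2 : (∑ i ∈ Finset.range (orderOf x), (X : V[X]) ^ i).map (algebraMap V ℂ) =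
        ∑ i ∈ Finset.range (orderOf x), (X : ℂ[X]) ^ i := by
      rw [Polynomial.map_sum]
      exact Finset.sum_congr rfl fun i _ => by rw [Polynomial.map_pow, Polynomial.map_X]
    rw [e1, e2] at h5
    have h6 := h1 x
    have h7 := LinearMap.finrank_range_add_finrank_ker (ρ x - 1)
    have h8 := LinearMap.finrank_range_add_finrank_ker (σ x - 1)
    have h9 : LinearMap.ker (ρ x - 1) = Module.End.eigenspace (ρ x) 1 := by
      rw [Module.End.eigenspace_def, one_smul]
    have h10 : LinearMap.ker (σ x - 1) = Module.End.eigenspace (σ x) 1 := by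
      rw [Module.End.eigenspace_def, one_smul]
    rw [h9, h6] at h7
    rw [h10] at h8
    omega
  · obtain ⟨R, hR1, hR2, hR3⟩ := h2 y g hg
    obtain ⟨j, hj⟩ := hy
    have hpow : ∀ c ∈ R, c ^ 2 ^ j = 1 := by
      intro c hc
      obtain ⟨a, ha⟩ := orderOf_dvd_of_pow_eq_one hj
      rw [ha, pow_mul, hR2 c hc, one_pow]
    have hRV : ∀ c ∈ R, c ∈ V := by
      intro c hc
      have h4 := hpow c hc
      rw [← V.valuation_le_one_iff]
      have h5 : V.valuation c ^ 2 ^ j = 1 := by rw [← map_pow, h4, map_one]
      exact (pow_le_one_iff (pow_ne_zero _ two_ne_zero)).1 h5.le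
    have hres : ∀ c : R, residue V ⟨c.1, hRV c.1 c.2⟩ = 1 := by
      intro c
      have h4 : (residue V ⟨c.1, hRV c.1 c.2⟩) ^ 2 ^ j = 1 := by
        rw [← map_pow]
        have : (⟨c.1, hRV c.1 c.2⟩ : V) ^ 2 ^ j = 1 := Subtype.ext (by simpa using hpow c.1 c.2)
        rw [this, map_one]
      have : ExpChar (ResidueField V) 2 := ExpChar.prime Nat.prime_two
      exact (ExpChar.pow_prime_pow_mul_eq_one_iff 2 j 1 _).1 (by simpa using h4) |> fun h => by simpa using h
    set P : V[X] := ∏ c : R, (X - C ⟨c.1, hRV c.1 c.2⟩) with hP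
    have hP1 : P.map (residue V) = (X - 1) ^ R.card := by
      rw [hP, Polynomial.map_prod]
      simp only [Polynomial.map_sub, Polynomial.map_X, Polynomial.map_C, hres, map_one]
      rw [Finset.prod_const, Finset.card_univ, Fintype.card_coe]
    have hP2 : P.map (algebraMap V ℂ) = ∏ c ∈ R, (X - C c) := by
      rw [hP, Polynomial.map_prod, ← Finset.prod_coe_sort R (fun c => X - C c)]
      refine Finset.prod_congr rfl fun c _ => ?_
      rw [Polynomial.map_sub, Polynomial.map_X, Polynomial.map_C]
      rfl
    have h3 := hτ y P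
    rw [hP1, hP2, map_pow, map_sub, aeval_X, map_one] at h3
    have h4 : ((τ y - 1) ^ g.natDegree).rank ≤ ((τ y - 1) ^ R.card).rank := by
      rw [← Nat.add_sub_cancel' hR1, pow_add]
      exact Matrix.rank_mul_le_left _ _
    have h5 := LinearMap.finrank_range_add_finrank_ker (aeval (ρ y) (∏ c ∈ R, (X - C c)))
    have h6 := LinearMap.finrank_range_add_finrank_ker (aeval (σ y) g)
    omega

end Cfsg.Agent.H408.Hall.RedTwo
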