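import Cfsg.Agent.H408.Hall.SpMono
import Cfsg.Agent.H408.Pron.PosGU

/-!
# Hall subgroups of the symplectic groups, 2 not a square (helper408)
-/

set_option autoImplicit false
set_option linter.unusedSectionVars false

namespace Cfsg.Agent.H408.Hall.Sp

open Quaternion Matrix Equiv
open Cfsg.Agent.H158.PronQ Cfsg.Agent.H158.PronMat Cfsg.Agent.H158.PronMono
open Cfsg.Agent.H158.PronFrame Cfsg.Agent.H158.PronTwo Cfsg.Agent.H158.PronAvg
open Cfsg.Agent.H158.PronK Cfsg.Agent.H158.PronP Cfsg.Agent.H158.PronT Cfsg.Agent.H158.PronH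
open Cfsg.Agent.H158.PronG Cfsg.Agent.H158.PronM2
open Cfsg.Agent.H408.Pron.Gen Cfsg.Agent.H408.Pron.Frame
open Cfsg.Agent.H165.RV Cfsg.Agent.H988.CPi
open Cfsg.Agent.H408.Hall.SpMono
open scoped Pointwise

/-- the symplectic group in quaternionic form -/
abbrev GU (n : Type*) [Fintype n] [DecidableEq n] (F : Type*) [Field F] := Cfsg.Agent.H158.PronMat.GU n F

variable {F : Type*} [Field F] [Finite F]
variable {n : Type*} [Fintype n] [DecidableEq n] {π : Set ℕ}

/-- The overgroups of the Sylow 2-subgroup: monomial is enough. -/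
theorem pr_of_mono (h2 : (2 : F) ≠ 0) (hns : ¬ IsSquare (2 : F)) (h2π : 2 ∈ π)
    (hm : ∀ T : Sylow 2 (Perm n), ∀ H : Subgroup (GU n F), Cfsg.IsPiHall π H →
      SG (Q8 F) (T : Subgroup (Perm n)) ≤ H → H ≤ MM) :
    ∀ H : Subgroup (GU n F), Cfsg.IsPiHall π H → ∀ g, Pr H g := by
  have : Fact (Nat.Prime 2) := ⟨Nat.prime_two⟩
  obtain ⟨T⟩ : Nonempty (Sylow 2 (Perm n)) := inferInstance
  obtain ⟨S, hS⟩ := exists_sylow_gen h2 hns T
  refine Own.of_sylow S (fun H => Cfsg.IsPiHall π H) ?_ ?_ ?_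
  · intro H g h
    rw [← cj_eq]
    have h1 : (H.map (MulAut.conj g : GU n F ≃* GU n F).toMonoidHom).index = H.index :=
      Subgroup.index_map_equiv H (MulAut.conj g)
    have h3 : Nat.card (H.map (MulAut.conj g : GU n F ≃* GU n F).toMonoidHom) = Nat.card H :=
      Subgroup.card_map_of_injective (MulAut.conj g : GU n F ≃* GU n F).injective
    refine ⟨fun p hp hd => h.1 p hp (h3 ▸ hd), fun p hp hpi => ?_⟩
    rw [h1]
    exact h.2 p hp hpi
  · intro H h
    exact h.2 2 Nat.prime_two h2π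
  · intro H hH hSH m hm'
    rw [hS] at hSH hm'
    obtain ⟨ε, hε, hs⟩ := norm_SG_gen h2 hns T hm'
    have h3 := pr_Dom h2 hns hH (hm T H hH hSH) (fun j w hw => hSH (Rj_mem _ j hw)) ε
    have h4 := h3.mul_right (hSH hs)
    rwa [mul_inv_cancel_left] at h4

theorem pow_three_eq_one_of_notMem {G : Type*} [Group G] [Finite G] {H : Subgroup G} (h3 : 3 ∉ π)
    (hH : Cfsg.IsPiHall π H) {x : G} (hx : x ∈ H) (h : x ^ 3 = 1) : x = 1 := by
  by_contra hne
  have h1 : orderOf x = 3 := orderOf_eq_prime h hne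
  exact h3 (hH.1 3 Nat.prime_three (h1 ▸ Subgroup.orderOf_dvd_natCard H hx))

/-- `3 ∉ π`: the frame theorem -/
theorem mono_of_three_notMem (h2 : (2 : F) ≠ 0) (hns : ¬ IsSquare (2 : F)) (h3 : 3 ∉ π)
    (T : Sylow 2 (Perm n)) {H : Subgroup (GU n F)} (hH : Cfsg.IsPiHall π H)
    (hS : SG (Q8 F) (T : Subgroup (Perm n)) ≤ H) : H ≤ MM := by
  have hom : (om h2 : U F) ≠ 1 := fun h => om_notMem h2 (h ▸ one_mem _)
  have hc : ∀ j : n, (Rj j (om h2) : GU n F) ^ 3 = 1 := fun j => by rw [← map_pow, om_cube, map_one]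
  have hne : ∀ j : n, (Rj j (om h2) : GU n F) ≠ 1 := by
    intro j h
    apply hom
    have h1 : (Rj j (om h2) : GU n F).1 j j = (1 : GU n F).1 j j := by rw [h]
    rw [Rj_apply, if_pos rfl, if_pos rfl] at h1
    have h4 : (1 : GU n F).1 j j = 1 := Matrix.one_apply_eq j
    exact Subtype.ext (h1.trans h4)
  have hG : Good h2 T H (fun _ => True) := by
    refine ⟨hS, fun j _ h => hne j (pow_three_eq_one_of_notMem h3 hH h (hc j)), ?_, fun _ _ _ h => absurd trivial h⟩
    intro a b hab _ _ h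
    have hcomm : Commute (Rj a (om h2) : GU n F) (Rj b (om h2)) := by
      rw [Cfsg.Agent.H408.Pron.Cases.Rj_om, Cfsg.Agent.H408.Pron.Cases.Rj_om]
      exact Dom_comm h2 _ _
    have h1 := pow_three_eq_one_of_notMem h3 hH h (by rw [hcomm.mul_pow, hc, hc, one_mul])
    have h4 : (Rj a (om h2) * Rj b (om h2) : GU n F).1 a a = (1 : GU n F).1 a a := by rw [h1]
    have h5 : (Rj a (om h2) * Rj b (om h2) : GU n F).1 a a = ((om h2 : U F) : ℍ[F]) := by
      rw [Rj_eq_D a, D_mul_apply, Rj_apply, if_pos rfl, if_pos rfl, if_neg hab, mul_one]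
    rw [h5] at h4
    have h6 : (1 : GU n F).1 a a = 1 := Matrix.one_apply_eq a
    exact hom (Subtype.ext (h4.trans h6))
  intro k hk
  rw [mem_MM]
  apply Cfsg.Agent.H158.PronA.mono_of_cols
  intro b
  obtain ⟨j, -, hj⟩ := frame hns hG ((CV_e (j := b) trivial).act hk)
  refine ⟨j, fun a ha => ?_⟩
  have h3 := hj a ha
  rwa [Cfsg.Agent.H158.PronMono.mulVec_e] at h3

end Cfsg.Agent.H408.Hall.Sp
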