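import Cfsg.Agent.H408.Hall.Own
import Cfsg.Agent.H408.Pron.Cases2

/-!
# Monomial Hall subgroups of the symplectic groups are pronormal (helper408)

`GU n F` is the symplectic group in quaternionic form.
-/

set_option autoImplicit false
set_option linter.unusedSectionVars false

namespace Cfsg.Agent.H408.Hall.SpMono

open Quaternion Matrix Equiv
open Cfsg.Agent.H158.PronQ Cfsg.Agent.H158.PronMat Cfsg.Agent.H158.PronMono
open Cfsg.Agent.H158.PronFrame Cfsg.Agent.H158.PronTwo Cfsg.Agent.H158.PronAvg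
open Cfsg.Agent.H158.PronK Cfsg.Agent.H158.PronP Cfsg.Agent.H158.PronT Cfsg.Agent.H158.PronH
open Cfsg.Agent.H158.PronG Cfsg.Agent.H158.PronM2
open Cfsg.Agent.H408.Pron.Gen
open Cfsg.Agent.H165.RV Cfsg.Agent.H988.CPi Cfsg.Agent.H571.DExt
open scoped Pointwise

/-- the symplectic group in quaternionic form -/
abbrev GU (n : Type*) [Fintype n] [DecidableEq n] (F : Type*) [Field F] := Cfsg.Agent.H158.PronMat.GU n F

section Abstract

variable {G : Type*} [Group G] [Finite G]

theorem relIndex_dvd_of_normal (H A : Subgroup G) [A.Normal] : H.relIndex A ∣ H.index := by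
  rw [← relIndex_sup' H A, ← Subgroup.relIndex_mul_index (le_sup_left : H ≤ H ⊔ A)]
  exact dvd_mul_right _ _

/-- A Hall subgroup of a product contains the components of its elements. -/
theorem mulSingle_mem {n : Type*} [Fintype n] [DecidableEq n] {V : Type*} [Group V] [Finite V] {π : Set ℕ}
    {B : Subgroup (n → V)} (h1 : PiN π (Nat.card B)) (h2 : PiN' π B.index) {d : n → V} (hd : d ∈ B) (j : n) :
    Pi.mulSingle j (d j) ∈ B := by
  set K : Subgroup (n → V) := (MonoidHom.mulSingle (fun _ : n => V) j).range with hK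
  have hKn : K.Normal := by
    refine ⟨?_⟩
    rintro _ ⟨v, rfl⟩ g
    refine ⟨g j * v * (g j)⁻¹, ?_⟩
    funext a
    by_cases ha : a = j
    · subst ha; simp
    · simp [ha]
  set Bj : Subgroup V := B.comap (MonoidHom.mulSingle (fun _ : n => V) j) with hBj
  set Pj : Subgroup V := B.map (Pi.evalMonoidHom (fun _ : n => V) j) with hPj
  have hBP : Bj ≤ Pj := by
    intro v hv
    exact ⟨_, hv, by simp⟩
  have h3 : Bj.relIndex Pj ∣ B.index := by
    have h4 : Bj.index = B.relIndex K := Subgroup.index_comap _ _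
    refine (Dvd.intro _ (Subgroup.relIndex_mul_index hBP)).trans ?_
    rw [h4]
    exact relIndex_dvd_of_normal B K
  have h5 : Bj.relIndex Pj ∣ Nat.card B := by
    refine (Subgroup.relIndex_dvd_card Bj Pj).trans ?_
    exact Subgroup.card_map_dvd _ _
  have h6 : Bj.relIndex Pj = 1 := by
    by_contra hne
    obtain ⟨q, hq, hqd⟩ := Nat.exists_prime_and_dvd hne
    exact h2 q hq (h1 q hq (hqd.trans h5)) (hqd.trans h3)
  have h7 : Pj ≤ Bj := Subgroup.relIndex_eq_one.1 h6
  exact h7 ⟨d, hd, rfl⟩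

end Abstract

variable {F : Type*} [Field F]
variable {n : Type*} [Fintype n] [DecidableEq n]

/-- the monomial matrices -/
def MM : Subgroup (GU n F) := SG ⊤ ⊤

theorem mem_MM {g : GU n F} : g ∈ (MM : Subgroup (GU n F)) ↔ ∃ σ : Perm n, Mono g.1 σ := by
  constructor
  · rintro ⟨σ, -, h, -⟩
    exact ⟨σ, h⟩
  · rintro ⟨σ, h⟩
    refine ⟨σ, trivial, h, fun b => ?_⟩
    obtain ⟨u, hu⟩ := h.entry b
    exact ⟨u, trivial, hu⟩

/-- the diagonal matrices -/
def AA : Subgroup (GU n F) := (D : (n → U F) →* GU n F).range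

theorem mem_AA {g : GU n F} : g ∈ (AA : Subgroup (GU n F)) ↔ Mono g.1 1 := by
  constructor
  · rintro ⟨d, rfl⟩
    exact D_mono d
  · intro h
    choose u hu using fun b => h.entry b
    refine ⟨u, ?_⟩
    apply Subtype.ext
    ext1 a b
    rw [D_apply]
    by_cases hab : a = b
    · subst hab
      rw [if_pos rfl, hu a, Perm.one_apply]
    · rw [if_neg hab, h a b hab]

theorem AA_le_MM : (AA : Subgroup (GU n F)) ≤ MM := fun _ hg => mem_MM.2 ⟨1, mem_AA.1 hg⟩

theorem AA_conj {g a : GU n F} (hg : g ∈ (MM : Subgroup (GU n F))) (ha : a ∈ (AA : Subgroup (GU n F))) :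
    g * a * g⁻¹ ∈ (AA : Subgroup (GU n F)) := by
  obtain ⟨σ, hσ⟩ := mem_MM.1 hg
  have h1 : Mono (g⁻¹ : GU n F).1 σ⁻¹ := by
    rw [coe_inv_GU]; exact hσ.star
  have h2 : Mono (g * a * g⁻¹ : GU n F).1 (σ * 1 * σ⁻¹) := (hσ.mul (mem_AA.1 ha)).mul h1
  rw [mul_one, mul_inv_cancel] at h2
  exact mem_AA.2 h2

instance AA_normal : ((AA : Subgroup (GU n F)).subgroupOf MM).Normal := by
  refine ⟨fun a ha g => ?_⟩
  rw [Subgroup.mem_subgroupOf] at ha ⊢
  exact AA_conj g.2 ha

theorem D_mem_of {J : Subgroup (GU n F)} {d : n → U F} (h : ∀ j, Rj j (d j) ∈ J) : D d ∈ J := by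
  have h1 : d ∈ J.comap (D : (n → U F) →* GU n F) := by
    refine Subgroup.pi_mem_of_mulSingle_mem d fun j => ?_
    rw [Subgroup.mem_comap]
    have h2 := h j
    rw [Rj_eq_D] at h2
    have e1 : (Pi.mulSingle j (d j) : n → U F) = fun c => if c = j then d j else 1 := by
      funext c
      rw [Pi.mulSingle_apply]
    rw [e1]
    exact h2
  exact h1

variable [Finite F] {π : Set ℕ}

/-- A monomial Hall subgroup contains the components of its diagonal elements. -/
theorem Rj_mem_of_D {H : Subgroup (GU n F)} (hH : Cfsg.IsPiHall π H) (hM : H ≤ MM) {d : n → U F} (hd : D d ∈ H)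
    (j : n) : Rj j (d j) ∈ H := by
  have h1 : PiN π (Nat.card (H.comap (D : (n → U F) →* GU n F))) := by
    refine PiN.of_dvd hH.1 ?_
    have hinj : Function.Injective (D : (n → U F) →* GU n F) := by
      intro a b hab
      funext c
      have h3 := congrFun (congrFun (congrArg Subtype.val hab) c) c
      rw [D_apply, D_apply, if_pos rfl, if_pos rfl] at h3
      exact Subtype.ext h3
    rw [← Subgroup.card_map_of_injective (K := H.comap (D : (n → U F) →* GU n F)) hinj]
    exact Subgroup.card_dvd_of_le (Subgroup.map_comap_le _ _)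
  have h2 : PiN' π (H.comap (D : (n → U F) →* GU n F)).index := by
    refine PiN'.of_dvd hH.2 ?_
    rw [Subgroup.index_comap]
    show H.relIndex AA ∣ _
    have h3 := relIndex_dvd_of_normal (H.subgroupOf MM) ((AA : Subgroup (GU n F)).subgroupOf MM)
    rw [Subgroup.relIndex_subgroupOf AA_le_MM] at h3
    refine h3.trans ?_
    exact Dvd.intro _ (Subgroup.relIndex_mul_index hM)
  have h3 := mulSingle_mem h1 h2 (d := d) hd j
  rw [Subgroup.mem_comap] at h3
  rw [Rj_eq_D]
  have e1 : (Pi.mulSingle j (d j) : n → U F) = fun c => if c = j then d j else 1 := by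
    funext c
    rw [Pi.mulSingle_apply]
  rw [e1] at h3
  exact h3

theorem Dom_conj_Rj (h2 : (2 : F) ≠ 0) (ε : n → ℤ) (j : n) (w : U F) :
    Dom h2 ε * Rj j w * (Dom h2 ε)⁻¹ = Rj j (om h2 ^ ε j * w * (om h2 ^ ε j)⁻¹) := by
  have hm : Mono (Dom h2 ε : GU n F).1 1 := D_mono _
  refine hm.conj_Rj j ?_ w
  rw [Dom_apply, Perm.one_apply, if_pos rfl]

/-- **Monomial Hall subgroups**: the normalizer step. -/
theorem pr_Dom (h2 : (2 : F) ≠ 0) (hns : ¬ IsSquare (2 : F)) {H : Subgroup (GU n F)} (hH : Cfsg.IsPiHall π H)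
    (hM : H ≤ MM) (hQ : ∀ j, ∀ w ∈ Q8 F, Rj j w ∈ H) (ε : n → ℤ) : Pr H (Dom h2 ε) := by
  classical
  set J := H ⊔ MulAut.conj (Dom h2 ε) • H with hJ
  have hHJ : H ≤ J := le_sup_left
  have hgJ : ∀ h ∈ H, Dom h2 ε * h * (Dom h2 ε)⁻¹ ∈ J := by
    intro h hh
    refine Subgroup.mem_sup_right ?_
    exact Subgroup.smul_mem_pointwise_smul _ (MulAut.conj (Dom h2 ε)) _ hh
  set ε' : n → ℤ := fun j => if Rj j (om h2) ∈ J then ε j else 0 with hε'
  have hy : Dom h2 ε' ∈ J := by
    refine D_mem_of fun j => ?_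
    rw [map_zpow]
    by_cases hj : Rj j (om h2) ∈ J
    · exact zpow_mem hj _
    · rw [hε']
      simp only [if_neg hj, zpow_zero]
      exact one_mem _
  refine Pr.trans hy ?_
  set δ : n → ℤ := fun j => -ε' j + ε j with hδ
  have e1 : (Dom h2 ε')⁻¹ * Dom h2 ε = (Dom h2 δ : GU n F) := by
    rw [← Dom_neg, ← Dom_add]
  rw [e1]
  -- `ω ^ δ j` normalizes the components
  have key : ∀ j, ∀ w : U F, Rj j w ∈ H → Rj j (om h2 ^ δ j * w * (om h2 ^ δ j)⁻¹) ∈ H := by
    intro j w hw
    by_cases hj : Rj j (om h2) ∈ J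
    · have : δ j = 0 := by simp only [hδ, hε', if_pos hj]; ring
      rw [this, zpow_zero, one_mul, inv_one, mul_one]
      exact hw
    · have hδj : δ j = ε j := by simp only [hδ, hε', if_neg hj]; ring
      rw [hδj]
      rcases om_zpow_cases h2 (ε j) with h | h | h
      · rw [h, one_mul, inv_one, mul_one]; exact hw
      all_goals
        have h3 : H.comap (Rj j) ≤ Q8 F := by
          refine le_Q8_of_conj h2 hns (P₂ := J.comap (Rj j)) (fun v hv => hQ j v hv) (Subgroup.comap_mono hHJ) hj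
            (g := om h2 ^ ε j) (by rw [h]; simp) ?_
          intro v hv
          show Rj j _ ∈ J
          rw [← Dom_conj_Rj]
          exact hgJ _ hv
        exact hQ j _ (om_zpow_conj_mem h2 _ (h3 hw))
  -- in the monomial group
  set H' : Subgroup (MM : Subgroup (GU n F)) := H.subgroupOf MM with hH'
  set A' : Subgroup (MM : Subgroup (GU n F)) := (AA : Subgroup (GU n F)).subgroupOf MM with hA'
  have hDA : ∀ δ : n → ℤ, Dom h2 δ ∈ (AA : Subgroup (GU n F)) := fun δ => ⟨_, rfl⟩
  have hδM : Dom h2 δ ∈ (MM : Subgroup (GU n F)) := AA_le_MM (hDA δ)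
  have h3 : Pr H' (⟨Dom h2 δ, hδM⟩ : (MM : Subgroup (GU n F))) := by
    refine Pr.of_inter_eq A' (π := π) ?_ ?_ ?_ ?_
    · refine PiN.of_dvd hH.1 ?_
      rw [hH', ← Subgroup.card_map_of_injective (K := H.subgroupOf MM) (Subgroup.subtype_injective _),
        Subgroup.subgroupOf_map_subtype, inf_of_le_left hM]
    · refine PiN'.of_dvd hH.2 ?_
      refine (relIndex_dvd_of_normal H' A').trans ?_
      exact Dvd.intro _ (Subgroup.relIndex_mul_index hM)
    · have h4 : (⟨Dom h2 δ, hδM⟩ : (MM : Subgroup (GU n F))) ∈ H' ⊔ A' := Subgroup.mem_sup_right (hDA δ)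
      have h5 := smul_eq_of_mem h4
      rw [smul_sup', smul_normal A'] at h5
      exact h5
    · apply Subgroup.eq_of_le_of_card_ge
      · intro z hz
        obtain ⟨⟨x, hxM⟩, ⟨hx1, hx2⟩, rfl⟩ := (Subgroup.mem_smul_pointwise_iff_exists _ _ _).1 hz
        obtain ⟨d, hd⟩ : x ∈ (AA : Subgroup (GU n F)) := hx2
        have hdx : D d ∈ H := by rw [hd]; exact hx1
        have e2 : Dom h2 δ * x * (Dom h2 δ)⁻¹ = D (fun b => om h2 ^ δ b * d b * (om h2 ^ δ b)⁻¹) := by
          rw [← hd, Cfsg.Agent.H408.Pron.Gen.Dom, ← map_inv, ← map_mul, ← map_mul]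
          rfl
        have h5 : Dom h2 δ * x * (Dom h2 δ)⁻¹ ∈ H := by
          rw [e2]
          exact D_mem_of fun j => key j _ (Rj_mem_of_D hH hM hdx j)
        exact ⟨h5, ⟨_, e2.symm⟩⟩
      · rw [card_smul]
  have h4 := h3.of_subgroupOf hM
  exact h4

end Cfsg.Agent.H408.Hall.SpMono
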