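import Cfsg.Agent.H408.Hall.Sp

/-!
# Reflections of order 3 in a group normalising a 2-group with the frame reflections (helper408)

`N` is a subgroup of the wreath product `SG (Q8 F) T` normalised by `H` and containing the frame reflections. Then the
reflections of order three of `H` (of type `ω`) are in frame directions (characteristic not 2, 3).
-/

set_option autoImplicit false
set_option linter.unusedSectionVars false

namespace Cfsg.Agent.H408.Hall.SpRefl

open Quaternion Matrix Equiv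
open Cfsg.Agent.H158.PronQ Cfsg.Agent.H158.PronMat Cfsg.Agent.H158.PronMono
open Cfsg.Agent.H158.PronFrame Cfsg.Agent.H158.PronTwo Cfsg.Agent.H158.PronAvg
open Cfsg.Agent.H158.PronK Cfsg.Agent.H158.PronP Cfsg.Agent.H158.PronT Cfsg.Agent.H158.PronH
open Cfsg.Agent.H158.PronG Cfsg.Agent.H158.PronM2
open Cfsg.Agent.H408.Pron.Gen Cfsg.Agent.H408.Pron.Frame

/-- the symplectic group in quaternionic form -/
abbrev GU (n : Type*) [Fintype n] [DecidableEq n] (F : Type*) [Field F] := Cfsg.Agent.H158.PronMat.GU n F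

variable {F : Type*} [Field F]

/-! ### quaternions -/

theorem normSq_q (h2 : (2 : F) ≠ 0) : normSq (omQ F - 1) = 3 := by
  have ht := two_half h2
  rw [normSq_def']
  simp only [omQ, re_sub, imI_sub, imJ_sub, imK_sub, mkQ_re, mkQ_imI, mkQ_imJ, mkQ_imK, re_one, imI_one,
    imJ_one, imK_one]
  linear_combination (2 * (2 : F)⁻¹ + 2) * ht

theorem re_q (h2 : (2 : F) ≠ 0) : 2 * (omQ F - 1).re = -3 := by
  have ht := two_half h2
  simp only [omQ, re_sub, mkQ_re, re_one]
  linear_combination -ht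

theorem re_conj (β q : ℍ[F]) : (star β * q * β).re = normSq β * q.re := by
  rw [normSq_def']
  simp
  ring

theorem normSq_one_add (δ : ℍ[F]) : normSq (1 + δ) = 1 + 2 * δ.re + normSq δ := by
  rw [normSq_def', normSq_def']
  simp
  ring

theorem normSq_one_add_conj (h2 : (2 : F) ≠ 0) (β : ℍ[F]) :
    normSq (1 + star β * (omQ F - 1) * β) = 1 - 3 * normSq β + 3 * normSq β ^ 2 := by
  have h1 := re_q h2
  rw [normSq_one_add, re_conj, map_mul, map_mul, normSq_star, normSq_q h2]
  linear_combination normSq β * h1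

theorem imp0 (h2 : (2 : F) ≠ 0) (β : ℍ[F]) : 1 + star β * (omQ F - 1) * β ≠ 0 := by
  intro h
  have h0 : star β * (omQ F - 1) * β = -1 := by
    rw [add_comm] at h
    exact eq_neg_of_add_eq_zero_left h
  have h1 : normSq β * (omQ F - 1).re = -1 := by
    rw [← re_conj, h0]; simp
  have h4 := congrArg normSq h0
  rw [map_mul, map_mul, normSq_star, normSq_q h2, normSq_neg, map_one] at h4
  have h5 := re_q h2
  have h6 : 3 * normSq β = 2 := by linear_combination (-2) * h1 + normSq β * h5
  have h7 : (1 : F) = 0 := by linear_combination 3 * h4 - (3 * normSq β + 2) * h6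
  exact one_ne_zero h7

/-- Euler's four square identity -/
theorem euler (a c : ℍ[F]) (ha : normSq a + normSq c = 1) :
    (normSq (a + c) - 1) ^ 2 + (normSq (a + qi * c) - 1) ^ 2 + (normSq (a + qj * c) - 1) ^ 2 +
      (normSq (a + qk * c) - 1) ^ 2 = 4 * (normSq a * normSq c) := by
  rw [← ha]
  simp only [normSq_def']
  simp
  ring

variable {n : Type*} [Fintype n] [DecidableEq n]

theorem R_mulVec (v : n → ℍ[F]) (hv : ip v v = 1) (u : U F) (y : n → ℍ[F]) (a : n) :
    ((R v hv u : GU n F).1 *ᵥ y) a = y a + v a * (((u : ℍ[F]) - 1) * ip v y) := by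
  rw [coe_R, Matrix.add_mulVec, Matrix.one_mulVec, tv_mulVec]
  rfl

theorem ip_e' (y : n → ℍ[F]) (a : n) : ip y (e a) = star (y a) := by
  rw [← star_ip, ip_e]

/-- The data: a subgroup `N` of the wreath product normalised by `H ≥ SG (Q8 F) T` and containing the frame
reflections. -/
structure Dat (h2 : (2 : F) ≠ 0) (T : Subgroup (Perm n)) (N H : Subgroup (GU n F)) : Prop where
  sk : SG (Q8 F) T ≤ H
  nS : N ≤ SG (Q8 F) T
  norm : ∀ h ∈ H, ∀ x ∈ N, h * x * h⁻¹ ∈ N
  fr : ∀ j, Rj j nu ∈ N

namespace Dat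

variable {h2 : (2 : F) ≠ 0} {T : Subgroup (Perm n)} {N H : Subgroup (GU n F)} (X : Dat h2 T N H)

include X

/-- the image of a direction -/
theorem act {y : n → ℍ[F]} {hy : ip y y = 1} (hyN : R y hy nu ∈ N) {g : GU n F} (hg : g ∈ H)
    (hgy : ip (g.1 *ᵥ y) (g.1 *ᵥ y) = 1) : R (g.1 *ᵥ y) hgy nu ∈ N := by
  rw [← R_conj g y hy hgy]
  exact X.norm g hg _ hyN

/-- **L1**: a reflection of type `ω` and a frame direction -/
theorem l1 (h3 : (3 : F) ≠ 0) {v : n → ℍ[F]} {hv : ip v v = 1} (hvH : R v hv (om h2) ∈ H) (a : n) :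
    v a = 0 ∨ (∀ c, c ≠ a → v c = 0) ∨
      ∃ c, c ≠ a ∧ swap a c ∈ T ∧ (∀ d, d ≠ a → d ≠ c → v d = 0) ∧ 6 * normSq (v a) * normSq (v c) = 1 ∧
        ∃ s : ℍ[F], 2 * normSq s = 1 ∧ ∃ w ∈ Q8 F, ∃ (y : n → ℍ[F]) (hy : ip y y = 1), R y hy nu ∈ N ∧
          (∀ d, d ≠ a → d ≠ c → y d = 0) ∧ y c = s ∧ y a = (w : ℍ[F]) * s := by
  set x : GU n F := R v hv (om h2) with hx
  set y : n → ℍ[F] := x.1 *ᵥ e a with hy
  have hyy : ip y y = 1 := by rw [hy, ip_act, ip_e_e]
  have hyN : R y hyy nu ∈ N := X.act (y := e a) (hy := ip_e_e a) (X.fr a) hvH hyy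
  have hya : ∀ c, y c = (e a : n → ℍ[F]) c + v c * ((omQ F - 1) * star (v a)) := by
    intro c
    rw [hy, hx, R_mulVec, ip_e', coe_om]
  have hyaa : y a = 1 + v a * (omQ F - 1) * star (v a) := by
    rw [hya a]
    show (Pi.single a (1 : ℍ[F]) : n → ℍ[F]) a + _ = _
    rw [Pi.single_eq_same, mul_assoc]
  have hyc : ∀ c, c ≠ a → y c = v c * ((omQ F - 1) * star (v a)) := by
    intro c hc
    rw [hya c]
    show (Pi.single a (1 : ℍ[F]) : n → ℍ[F]) c + _ = _
    rw [Pi.single_eq_of_ne hc, zero_add]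
  have hy0 : y a ≠ 0 := by
    rw [hyaa]
    have := imp0 h2 (star (v a))
    rwa [star_star] at this
  have hNa : normSq (y a) = 1 - 3 * normSq (v a) + 3 * normSq (v a) ^ 2 := by
    rw [hyaa]
    have := normSq_one_add_conj h2 (star (v a))
    rwa [star_star, normSq_star] at this
  have hNc : ∀ c, c ≠ a → normSq (y c) = 3 * (normSq (v c) * normSq (v a)) := by
    intro c hc
    rw [hyc c hc, map_mul, map_mul, normSq_q h2, normSq_star]
    ring
  have hzero : ∀ c, c ≠ a → normSq (v a) ≠ 0 → y c = 0 → v c = 0 := by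
    intro c hc hn0 h
    rw [hyc c hc] at h
    refine mul_eq_zero_right ?_ h
    rw [map_mul, normSq_q h2, normSq_star]
    exact mul_ne_zero h3 hn0
  rcases rf_mem_SG h2 (X.nS hyN) with ⟨j, hj⟩ | ⟨b, c, hbc, hsw, -, hsupp, hNb, w, hw, hwb⟩
  · -- one coordinate
    have hja : j = a := by
      by_contra hja
      exact hy0 (hj a (Ne.symm hja))
    subst hja
    by_cases hv0 : v j = 0
    · exact Or.inl hv0
    right; left
    -- `normSq (v j) = 1`
    have h1 : ∀ c, c ≠ j → v c * ((omQ F - 1) * star (v j)) = 0 := fun c hc => by rw [← hyc c hc]; exact hj c hc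
    have h5 : (omQ F - 1) * star (v j) = ((normSq (v j) : F) : ℍ[F]) * ((omQ F - 1) * star (v j)) := by
      have h6 : ip v v * ((omQ F - 1) * star (v j)) =
          star (v j) * v j * ((omQ F - 1) * star (v j)) := by
        rw [ip, Finset.sum_mul, Finset.sum_eq_single j]
        · intro c _ hc
          rw [mul_assoc, h1 c hc, mul_zero]
        · exact fun h => absurd (Finset.mem_univ _) h
      rw [hv, one_mul, star_mul_self] at h6
      exact h6
    have h6 : ((1 : F) - normSq (v j)) • ((omQ F - 1) * star (v j)) = 0 := by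
      rw [sub_smul, one_smul, ← Quaternion.coe_mul_eq_smul, ← h5, sub_self]
    have h7 : (omQ F - 1) * star (v j) ≠ 0 := by
      intro h
      apply hv0
      have h8 := mul_eq_zero_left (by rw [normSq_q h2]; exact h3) h
      exact star_eq_zero.1 h8
    have h8 : 1 - normSq (v j) = 0 := (smul_eq_zero.1 h6).resolve_right h7
    have h9 : normSq (v j) ≠ 0 := by
      intro h
      rw [h, sub_zero] at h8
      exact one_ne_zero h8
    intro c hc
    exact hzero c hc h9 (hj c hc)
  · -- two coordinates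
    right; right
    have hNb' : 2 * normSq (y b) = 1 := by
      rw [hwb, normSq_neg, map_mul, hw.normSq, one_mul]; exact hNb
    have habc : a = b ∨ a = c := by
      by_contra hcon
      push Not at hcon
      exact hy0 (hsupp a hcon.1 hcon.2)
    have fin : ∀ c', c' ≠ a → 2 * normSq (y c') = 1 → (∀ d, d ≠ a → d ≠ c' → y d = 0) →
        (∀ d, d ≠ a → d ≠ c' → v d = 0) ∧ 6 * normSq (v a) * normSq (v c') = 1 := by
      intro c' hc' hN hs
      rw [hNc c' hc'] at hN
      have hn0 : normSq (v a) ≠ 0 := by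
        intro h
        rw [h, mul_zero, mul_zero, mul_zero] at hN
        exact zero_ne_one hN
      exact ⟨fun d hd hd' => hzero d hd hn0 (hs d hd hd'), by linear_combination hN⟩
    rcases habc with rfl | rfl
    · obtain ⟨h5, h6⟩ := fin c hbc.symm hNb (fun d hd hd' => hsupp d hd hd')
      refine ⟨c, hbc.symm, hsw, h5, h6, y c, hNb, nu * w, mul_mem nu_mem hw, y, hyy, hyN,
        fun d hd hd' => hsupp d hd hd', rfl, ?_⟩
      rw [hwb, Submonoid.coe_mul, coe_nu]; simp
    · obtain ⟨h5, h6⟩ := fin b hbc hNb' (fun d hd hd' => hsupp d hd' hd)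
      refine ⟨b, hbc, by rw [Equiv.swap_comm]; exact hsw, h5, h6, y b, hNb', nu * w⁻¹, mul_mem nu_mem (inv_mem hw), y, hyy,
        hyN, fun d hd hd' => hsupp d hd' hd, rfl, ?_⟩
      rw [hwb, Submonoid.coe_mul, coe_nu]
      have h7 : ((w⁻¹ : U F) : ℍ[F]) * (w : ℍ[F]) = 1 := by
        rw [← Submonoid.coe_mul, inv_mul_cancel]; rfl
      simp only [mul_neg, neg_mul, one_mul, neg_neg]
      rw [← mul_assoc, h7, one_mul]

omit X in
theorem sum_two {y : n → ℍ[F]} {hy : ip y y = 1} {a c : n} (hac : a ≠ c)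
    (h : ∀ d, d ≠ a → d ≠ c → y d = 0) : normSq (y a) + normSq (y c) = 1 := by
  rw [← sum_normSq hy, ← Finset.sum_pair (f := fun d => normSq (y d)) hac]
  refine Finset.sum_subset (Finset.subset_univ _) fun d _ hd => ?_
  rw [Finset.mem_insert, Finset.mem_singleton, not_or] at hd
  rw [h d hd.1 hd.2, map_zero]

omit X in
theorem ip_two {f y : n → ℍ[F]} {a c : n} (hac : a ≠ c) (h : ∀ d, d ≠ a → d ≠ c → f d = 0) :
    ip f y = star (f a) * y a + star (f c) * y c := by
  rw [ip, ← Finset.sum_pair (f := fun d => star (f d) * y d) hac]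
  symm
  refine Finset.sum_subset (Finset.subset_univ _) fun d _ hd => ?_
  rw [Finset.mem_insert, Finset.mem_singleton, not_or] at hd
  rw [h d hd.1 hd.2, star_zero, zero_mul]

omit X in
theorem normSq_one_sub {w : U F} (hw : w ∈ Q8 F) :
    (w : ℍ[F]) = 1 ∨ (w : ℍ[F]) = -1 ∨ normSq (1 - (w : ℍ[F])) = 2 := by
  rcases hw with h | h | h | h | h | h | h | h
  · exact Or.inl h
  · exact Or.inr (Or.inl h)
  all_goals
    right; right
    rw [h, normSq_def']
    simp
    norm_num

/-- **L2**: a reflection of type `ω` and the direction `(1, 1)` -/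
theorem l2 (h3 : (3 : F) ≠ 0) {a c : n} (hac : a ≠ c) {s : ℍ[F]} (hs : 2 * normSq s = 1) {f : n → ℍ[F]}
    {hf : ip f f = 1} (hfa : f a = s) (hfc : f c = s) (hf0 : ∀ d, d ≠ a → d ≠ c → f d = 0)
    (hfN : R f hf nu ∈ N) {v : n → ℍ[F]} {hv : ip v v = 1} (hvH : R v hv (om h2) ∈ H)
    (hv0 : ∀ d, d ≠ a → d ≠ c → v d = 0) :
    v a + v c = 0 ∨ v a = v c ∨ 3 * (normSq (v a + v c) - 1) ^ 2 = 1 := by
  set x : GU n F := R v hv (om h2) with hx
  set β : ℍ[F] := ip v f with hβ
  have hβ' : β = star (v a + v c) * s := by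
    rw [hβ, ip_two hac hv0, hfa, hfc, star_add, add_mul]
  set y : n → ℍ[F] := x.1 *ᵥ f with hy
  have hyy : ip y y = 1 := by rw [hy, ip_act, hf]
  have hyN : R y hyy nu ∈ N := X.act hfN hvH hyy
  have hyd : ∀ d, y d = f d + v d * ((omQ F - 1) * β) := by
    intro d
    rw [hy, hx, R_mulVec, coe_om]
  have hy0 : ∀ d, d ≠ a → d ≠ c → y d = 0 := by
    intro d hd hd'
    rw [hyd, hf0 d hd hd', hv0 d hd hd', zero_mul, add_zero]
  have hδ : ip f y = 1 + star β * (omQ F - 1) * β := by
    have h1 : y = f + fun d => v d * ((omQ F - 1) * β) := by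
      funext d; rw [hyd]; rfl
    rw [h1, ip_add_right, hf, ip_smul_right, ← star_ip v f, ← hβ, mul_assoc]
  have hδ' : ip f y = star s * (y a + y c) := by
    rw [ip_two hac hf0, hfa, hfc, mul_add]
  have hγ : 2 * normSq β = normSq (v a + v c) := by
    rw [hβ', map_mul, normSq_star]
    linear_combination normSq (v a + v c) * hs
  have hNs : normSq s ≠ 0 := by
    intro h; rw [h, mul_zero] at hs; exact zero_ne_one hs
  have hsum : normSq (v a) + normSq (v c) = 1 := sum_two (hy := hv) hac hv0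
  have hsumy : normSq (y a) + normSq (y c) = 1 := sum_two (hy := hyy) hac hy0
  have hyne : y a + y c ≠ 0 := by
    intro h
    rw [h, mul_zero] at hδ'
    rw [hδ'] at hδ
    exact imp0 h2 β hδ.symm
  -- the generic case
  have hgen : 2 * normSq (ip f y) = 1 → 3 * (normSq (v a + v c) - 1) ^ 2 = 1 := by
    intro h
    rw [hδ, normSq_one_add_conj h2] at h
    rw [← hγ]
    linear_combination 2 * h
  have hN : normSq (ip f y) = normSq s * normSq (y a + y c) := by
    rw [hδ', map_mul, normSq_star]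
  have heq : y a = y c → v a + v c = 0 ∨ v a = v c := by
    intro h
    have h1 : (v a - v c) * ((omQ F - 1) * β) = 0 := by
      have h4 := hyd a
      have h5 := hyd c
      rw [hfa] at h4
      rw [hfc] at h5
      have h6 : (v a - v c) * ((omQ F - 1) * β) = y a - y c := by
        rw [h4, h5]; noncomm_ring
      rw [h6, h, sub_self]
    have h4 : normSq (v a - v c) + normSq (v a + v c) = 2 := by
      have h5 : normSq (v a - v c) + normSq (v a + v c) = 2 * (normSq (v a) + normSq (v c)) := by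
        simp only [normSq_def']
        simp
        ring
      rw [h5, hsum, mul_one]
    by_cases h5 : normSq (v a - v c) = 0
    · right
      rw [h5, zero_add] at h4
      have h6 : normSq ((omQ F - 1) * β) ≠ 0 := by
        rw [map_mul, normSq_q h2, hβ', map_mul, normSq_star, h4]
        exact mul_ne_zero h3 (mul_ne_zero h2 hNs)
      exact sub_eq_zero.1 (mul_eq_zero_right h6 h1)
    · left
      have h6 := mul_eq_zero_left h5 h1
      have h7 := mul_eq_zero_left (by rw [normSq_q h2]; exact h3) h6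
      rw [hβ'] at h7
      exact star_eq_zero.1 (mul_eq_zero_right hNs h7)
  rcases rf_mem_SG h2 (X.nS hyN) with ⟨j, hj⟩ | ⟨b, d, hbd, -, -, hsupp, hNd, w, hw, hwb⟩
  · right; right
    apply hgen
    rw [hN]
    by_cases hja : j = a
    · have h4 : y c = 0 := hj c (by rw [hja]; exact hac.symm)
      rw [h4, map_zero, add_zero] at hsumy
      rw [h4, add_zero, hsumy, mul_one]; exact hs
    · have h4 : y a = 0 := hj a (Ne.symm hja)
      rw [h4, map_zero, zero_add] at hsumy
      rw [h4, zero_add, hsumy, mul_one]; exact hs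
  · have hdne : y d ≠ 0 := by
      intro h; rw [h, map_zero, mul_zero] at hNd; exact zero_ne_one hNd
    have hbne : y b ≠ 0 := by
      intro h
      rw [h] at hwb
      have h4 := neg_eq_zero.1 hwb.symm
      exact hdne (mul_eq_zero_left (by rw [hw.normSq]; exact one_ne_zero) h4)
    have hb : b = a ∨ b = c := by
      by_contra hcon
      push Not at hcon
      exact hbne (hy0 b hcon.1 hcon.2)
    have hd : d = a ∨ d = c := by
      by_contra hcon
      push Not at hcon
      exact hdne (hy0 d hcon.1 hcon.2)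
    have hsm : y a + y c = (1 - (w : ℍ[F])) * y d := by
      have h4 : (1 - (w : ℍ[F])) * y d = y b + y d := by rw [hwb]; noncomm_ring
      rw [h4]
      rcases hb with rfl | rfl <;> rcases hd with rfl | rfl
      · exact absurd rfl hbd
      · rfl
      · rw [add_comm]
      · exact absurd rfl hbd
    rcases normSq_one_sub hw with h4 | h4 | h4
    · exfalso
      rw [h4, sub_self, zero_mul] at hsm
      exact hyne hsm
    · have h5 : y a = y c := by
        rw [h4] at hwb
        have h6 : y b = y d := by rw [hwb]; noncomm_ring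
        rcases hb with rfl | rfl <;> rcases hd with rfl | rfl
        · exact absurd rfl hbd
        · exact h6
        · exact h6.symm
        · exact absurd rfl hbd
      rcases heq h5 with h6 | h6
      · exact Or.inl h6
      · exact Or.inr (Or.inl h6)
    · right; right
      apply hgen
      rw [hN, hsm, map_mul, h4]
      linear_combination hs + 2 * normSq s * hNd

omit X in
theorem Rj_mulVec (c : n) (u : U F) (v : n → ℍ[F]) (d : n) :
    ((Rj c u : GU n F).1 *ᵥ v) d = if d = c then (u : ℍ[F]) * v d else v d := by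
  rw [Rj_eq_D]
  show (Matrix.diagonal (fun b => (((if b = c then u else 1 : U F)) : ℍ[F])) *ᵥ v) d = _
  rw [Matrix.mulVec_diagonal]
  split_ifs with h
  · rfl
  · show (1 : ℍ[F]) * v d = v d
    rw [one_mul]

/-- **The directions of the reflections of type `ω` are frame directions.** -/
theorem frame_of_om (h3 : (3 : F) ≠ 0) {v : n → ℍ[F]} {hv : ip v v = 1} (hvH : R v hv (om h2) ∈ H) :
    ∃ j, ∀ c, c ≠ j → v c = 0 := by
  obtain ⟨a, ha⟩ : ∃ a, v a ≠ 0 := by
    by_contra hcon
    push Not at hcon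
    rw [ip, Finset.sum_eq_zero fun c _ => by rw [hcon c, mul_zero]] at hv
    exact zero_ne_one hv
  rcases X.l1 h3 hvH a with h | h | ⟨c, hca, hsw, hv0, h6, s, hs, w, hw, y, hy, hyN, hy0, hyc, hya⟩
  · exact absurd h ha
  · exact ⟨a, h⟩
  exfalso
  have hac : a ≠ c := hca.symm
  have hRj : ∀ j, ∀ u ∈ Q8 F, (Rj j u : GU n F) ∈ H := fun j u hu => X.sk (Rj_mem _ j hu)
  -- the direction `(1, 1)`
  set f : n → ℍ[F] := (Rj a w⁻¹ : GU n F).1 *ᵥ y with hf
  have hff : ip f f = 1 := by rw [hf, ip_act, hy]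
  have hfN : R f hff nu ∈ N := X.act hyN (hRj a w⁻¹ (inv_mem hw)) hff
  have hfa : f a = s := by
    rw [hf, Rj_mulVec, if_pos rfl, hya, ← mul_assoc]
    have h7 : ((w⁻¹ : U F) : ℍ[F]) * (w : ℍ[F]) = 1 := by
      rw [← Submonoid.coe_mul, inv_mul_cancel]; rfl
    rw [h7, one_mul]
  have hfc : f c = s := by
    rw [hf, Rj_mulVec, if_neg hca, hyc]
  have hf0 : ∀ d, d ≠ a → d ≠ c → f d = 0 := by
    intro d hd hd'
    rw [hf, Rj_mulVec, if_neg hd, hy0 d hd hd']
  have hsum : normSq (v a) + normSq (v c) = 1 := sum_two (hy := hv) hac hv0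
  have key : ∀ u ∈ Q8 F, 3 * (normSq (v a + (u : ℍ[F]) * v c) - 1) ^ 2 = 1 := by
    intro u hu
    set v' : n → ℍ[F] := (Rj c u : GU n F).1 *ᵥ v with hv'
    have hvv : ip v' v' = 1 := by rw [hv', ip_act, hv]
    have hv'H : R v' hvv (om h2) ∈ H := by
      rw [← R_conj (Rj c u) v hv hvv]
      exact mul_mem (mul_mem (hRj c u hu) hvH) (inv_mem (hRj c u hu))
    have e1 : v' a = v a := by rw [hv', Rj_mulVec, if_neg hac]
    have e2 : v' c = (u : ℍ[F]) * v c := by rw [hv', Rj_mulVec, if_pos rfl]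
    have hv'0 : ∀ d, d ≠ a → d ≠ c → v' d = 0 := by
      intro d hd hd'
      rw [hv', Rj_mulVec, if_neg hd', hv0 d hd hd']
    have hcon : normSq (v a) = normSq (v c) → False := by
      intro h
      rw [h] at hsum h6
      have h8 : (2 : F) = 0 := by linear_combination 4 * h6 - 6 * (2 * normSq (v c) + 1) * hsum
      exact h2 h8
    have h7 := X.l2 h3 hac hs hfa hfc hf0 hfN hv'H hv'0
    rw [e1, e2] at h7
    rcases h7 with h7 | h7 | h7
    · exfalso
      apply hcon
      rw [eq_neg_of_add_eq_zero_left h7, normSq_neg, map_mul, hu.normSq, one_mul]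
    · exfalso
      apply hcon
      rw [h7, map_mul, hu.normSq, one_mul]
    · exact h7
  have k1 := key 1 (one_mem _)
  have k2 := key uI uI_mem
  have k3 := key uJ (Or.inr (Or.inr (Or.inr (Or.inr (Or.inl rfl)))))
  have k4 := key uK (Or.inr (Or.inr (Or.inr (Or.inr (Or.inr (Or.inr (Or.inl rfl)))))))
  have h1 : ((1 : U F) : ℍ[F]) = 1 := rfl
  rw [h1, one_mul] at k1
  rw [coe_uI] at k2
  rw [coe_uJ] at k3
  rw [coe_uK] at k4
  have h5 := euler (v a) (v c) hsum
  have h8 : (2 : F) = 0 := by linear_combination -k1 - k2 - k3 - k4 + 3 * h5 + 2 * h6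
  exact h2 h8

end Dat

end Cfsg.Agent.H408.Hall.SpRefl
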