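import Cfsg.Agent.H408.Hall.SpRefl

/-!
# A Sylow 3-subgroup and the frame reflections (helper408)
-/

set_option autoImplicit false
set_option linter.unusedSectionVars false

namespace Cfsg.Agent.H408.Hall.SpThree

open Quaternion Matrix Equiv
open Cfsg.Agent.H158.PronQ Cfsg.Agent.H158.PronMat Cfsg.Agent.H158.PronMono
open Cfsg.Agent.H158.PronFrame Cfsg.Agent.H158.PronTwo Cfsg.Agent.H158.PronAvg
open Cfsg.Agent.H158.PronK Cfsg.Agent.H158.PronP Cfsg.Agent.H158.PronT Cfsg.Agent.H158.PronH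
open Cfsg.Agent.H158.PronG Cfsg.Agent.H158.PronM2
open Cfsg.Agent.H408.Pron.Gen Cfsg.Agent.H408.Pron.Frame
open Cfsg.Agent.H408.Hall.SpMono Cfsg.Agent.H408.Hall.SpRefl

/-- the symplectic group in quaternionic form -/
abbrev GU (n : Type*) [Fintype n] [DecidableEq n] (F : Type*) [Field F] := Cfsg.Agent.H158.PronMat.GU n F

variable {F : Type*} [Field F] {n : Type*} [Fintype n] [DecidableEq n]

theorem exists_conj_om [Finite F] (h2 : (2 : F) ≠ 0) {H : Subgroup (GU n F)} (hH : ¬ 3 ∣ H.index) :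
    ∃ g : GU n F, ∀ j, g * Rj j (om h2) * g⁻¹ ∈ H := by
  have : Fact (Nat.Prime 3) := ⟨Nat.prime_three⟩
  set E : Subgroup (GU n F) :=
    (Subgroup.pi Set.univ fun _ : n => Subgroup.zpowers (om h2 : U F)).map (D : (n → U F) →* GU n F) with hE
  have hE3 : IsPGroup 3 E := by
    rintro ⟨_, d, hd, rfl⟩
    refine ⟨1, Subtype.ext ?_⟩
    show (D d) ^ 3 ^ 1 = 1
    rw [pow_one, ← map_pow]
    have h1 : d ^ 3 = 1 := by
      funext b
      obtain ⟨k, hk⟩ := Subgroup.mem_zpowers_iff.1 (hd b (Set.mem_univ b))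
      show d b ^ 3 = 1
      rw [← hk, ← zpow_natCast, ← _root_.zpow_mul, _root_.mul_comm, _root_.zpow_mul, zpow_natCast, om_cube,
        _root_.one_zpow]
    rw [h1, map_one]
  obtain ⟨P', hP'⟩ := hE3.exists_le_sylow
  obtain ⟨P, hP⟩ := Own.exists_sylow_le (p := 3) hH
  obtain ⟨g, hg⟩ := MulAction.exists_smul_eq (GU n F) P' P
  refine ⟨g, fun j => hP ?_⟩
  have h1 : Rj j (om h2) ∈ (P' : Subgroup (GU n F)) := by
    apply hP'
    rw [Rj_eq_D]
    refine ⟨_, fun b _ => ?_, rfl⟩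
    show (if b = j then om h2 else 1) ∈ Subgroup.zpowers (om h2 : U F)
    split_ifs
    · exact Subgroup.mem_zpowers _
    · exact one_mem _
  rw [← hg, Sylow.coe_subgroup_smul]
  exact Subgroup.smul_mem_pointwise_smul _ (MulAut.conj g) _ h1

theorem mono_of_dat [Finite F] {h2 : (2 : F) ≠ 0} (h3 : (3 : F) ≠ 0) {T : Subgroup (Perm n)} {N H : Subgroup (GU n F)}
    (X : Dat h2 T N H) (hH : ¬ 3 ∣ H.index) : H ≤ MM := by
  obtain ⟨g, hg⟩ := exists_conj_om h2 hH
  set v : n → n → ℍ[F] := fun j => g.1 *ᵥ e j with hv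
  have hip : ∀ i j, ip (v i) (v j) = ip (e i) (e j : n → ℍ[F]) := fun i j => ip_act g _ _
  have hvv : ∀ j, ip (v j) (v j) = 1 := fun j => by rw [hip, ip_e_e]
  have hvH : ∀ j, R (v j) (hvv j) (om h2) ∈ H := by
    intro j
    have h1 := hg j
    rwa [Rj, R_conj g (e j) (ip_e_e j) (hvv j)] at h1
  have hfr : ∀ j, ∃ k, ∀ c, c ≠ k → v j c = 0 := fun j => X.frame_of_om h3 (hvH j)
  choose s hs using hfr
  have hN : ∀ j, normSq (v j (s j)) = 1 := by
    intro j
    have h1 := sum_normSq (hvv j)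
    rwa [Finset.sum_eq_single (s j) (fun c _ hc => by rw [hs j c hc, map_zero])
      (fun h => absurd (Finset.mem_univ _) h)] at h1
  have hinj : Function.Injective s := by
    intro i j hij
    by_contra hne
    have h1 := hip i j
    rw [ip_e, ip, Finset.sum_eq_single (s i) (fun c _ hc => by rw [hs i c hc, star_zero, zero_mul])
      (fun h => absurd (Finset.mem_univ _) h)] at h1
    have h4 : (e j : n → ℍ[F]) i = 0 := Pi.single_eq_of_ne hne 1
    rw [h4] at h1
    have h5 := mul_eq_zero_left (by rw [normSq_star, hN]; exact one_ne_zero) h1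
    have h6 := hN j
    rw [← hij, h5, map_zero] at h6
    exact zero_ne_one h6
  have hsurj : Function.Surjective s := Finite.surjective_of_injective hinj
  intro h hh
  rw [mem_MM]
  apply Cfsg.Agent.H158.PronA.mono_of_cols
  intro b
  obtain ⟨j, rfl⟩ := hsurj b
  have hvj : v j = fun a => (e (s j) : n → ℍ[F]) a * v j (s j) := by
    funext a
    rw [e_mul_apply]
    split_ifs with ha
    · rw [ha]
    · exact hs j a ha
  have hw : ip (h.1 *ᵥ v j) (h.1 *ᵥ v j) = 1 := by rw [ip_act, hvv]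
  have hwH : R (h.1 *ᵥ v j) hw (om h2) ∈ H := by
    rw [← R_conj h (v j) (hvv j) hw]
    exact mul_mem (mul_mem hh (hvH j)) (inv_mem hh)
  obtain ⟨k, hk⟩ := X.frame_of_om h3 hwH
  refine ⟨k, fun a ha => ?_⟩
  have h1 := hk a ha
  rw [hvj, mulVec_smul_right] at h1
  have h4 := mul_eq_zero_right (by rw [hN]; exact one_ne_zero) h1
  rwa [Cfsg.Agent.H158.PronMono.mulVec_e] at h4

end Cfsg.Agent.H408.Hall.SpThree
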