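import Cfsg.Agent.H408.Hall.SpThree
import Cfsg.Agent.H408.Hall.MTwo
import Cfsg.Agent.H575.Hall.Rep
import Cfsg.Agent.H563.RV.Sp
import Cfsg.Agent.Lib.Cores

/-!
# The frame reflections are in the 2-core of a Hall subgroup of order prime to the characteristic (helper408)
-/

set_option autoImplicit false
set_option linter.unusedSectionVars false

namespace Cfsg.Agent.H408.Hall.SpTwo

open Quaternion Matrix Equiv Module Polynomial
open Cfsg.Agent.H158.PronQ Cfsg.Agent.H158.PronMat Cfsg.Agent.H158.PronMono Cfsg.Agent.H158.PronSp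
open Cfsg.Agent.H158.PronFrame Cfsg.Agent.H158.PronTwo Cfsg.Agent.H158.PronAvg
open Cfsg.Agent.H158.PronK Cfsg.Agent.H158.PronP Cfsg.Agent.H158.PronT Cfsg.Agent.H158.PronH
open Cfsg.Agent.H158.PronG Cfsg.Agent.H158.PronM2
open Cfsg.Agent.H408.Pron.Gen Cfsg.Agent.H408.Pron.Frame
open Cfsg.Agent.H575.Hall
open Cfsg.Agent.H408.Hall.SpMono Cfsg.Agent.H408.Hall.SpRefl Cfsg.Agent.H408.Hall.SpThree

/-- the symplectic group in quaternionic form -/
abbrev GU (n : Type*) [Fintype n] [DecidableEq n] (F : Type*) [Field F] := Cfsg.Agent.H158.PronMat.GU n F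

section Form

variable {K : Type*} [Field K] {n : Type*} [Fintype n] [DecidableEq n]

/-- the invariant form -/
noncomputable def frm (K : Type*) [Field K] (n : Type*) [Fintype n] [DecidableEq n] :
    (n ⊕ n → K) →ₗ[K] (n ⊕ n → K) →ₗ[K] K :=
  Matrix.toLinearMap₂' K (Matrix.J n K)

theorem frm_apply (v w : n ⊕ n → K) :
    frm K n v w = ∑ i, (v (Sum.inr i) * w (Sum.inl i) - v (Sum.inl i) * w (Sum.inr i)) := by
  rw [frm, Matrix.toLinearMap₂'_apply']
  have h : (Matrix.J n K) *ᵥ w = Sum.elim (fun i => - w (Sum.inr i)) (fun i => w (Sum.inl i)) := by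
    rw [Matrix.J, ← Sum.elim_comp_inl_inr w, fromBlocks_mulVec]
    simp only [zero_mulVec, one_mulVec, neg_mulVec, zero_add, add_zero, Sum.elim_comp_inl, Sum.elim_comp_inr]
    rfl
  rw [h, dotProduct, Fintype.sum_sum_type, ← Finset.sum_add_distrib]
  refine Finset.sum_congr rfl fun i _ => ?_
  simp
  ring

theorem frm_pres {A : Matrix (n ⊕ n) (n ⊕ n) K} (hA : A ∈ Matrix.symplecticGroup n K)
    (v w : n ⊕ n → K) : frm K n (A *ᵥ v) (A *ᵥ w) = frm K n v w := by
  rw [frm, Matrix.toLinearMap₂'_apply', Matrix.toLinearMap₂'_apply']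
  have h := SymplecticGroup.mem_iff'.1 hA
  rw [← vecMul_transpose A v, ← dotProduct_mulVec, mulVec_mulVec, mulVec_mulVec, h]

theorem frm_alt (v : n ⊕ n → K) : frm K n v v = 0 := by
  rw [frm_apply]
  exact Finset.sum_eq_zero fun i _ => by ring

theorem frm_nondeg (v : n ⊕ n → K) (h : ∀ w, frm K n w v = 0) : v = 0 := by
  funext i
  rcases i with i | i
  · have h1 := h (Pi.single (Sum.inr i) 1)
    rw [frm_apply, Finset.sum_eq_single i] at h1
    · simpa using h1
    · intro j _ hj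
      simp [hj]
    · intro h2
      exact absurd (Finset.mem_univ i) h2
  · have h1 := h (Pi.single (Sum.inl i) 1)
    rw [frm_apply, Finset.sum_eq_single i] at h1
    · simpa using h1
    · intro j _ hj
      simp [hj]
    · intro h2
      exact absurd (Finset.mem_univ i) h2

end Form

section

variable {F : Type*} [Field F] {K : Type*} [Field K] [Algebra F K] {n : Type*} [Fintype n] [DecidableEq n] {a b : F}

theorem mat_mem (hab : a * a + b * b = -1) (g : GU n F) : mat K a b g.1 ∈ Matrix.symplecticGroup n K := by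
  have h1 := congrArg (fun M : Matrix _ _ F => M.map (algebraMap F K)) (SymplecticGroup.mem_iff.1 (toSp hab g).2)
  rw [SymplecticGroup.mem_iff]
  have hJ : (Matrix.J n F).map (algebraMap F K) = Matrix.J n K := by
    rw [Matrix.J, Matrix.J, fromBlocks_map]
    congr 1
    · exact Matrix.map_zero _ (map_zero _)
    · ext a b; simp [Matrix.one_apply]
    · exact Matrix.map_one _ (map_zero _) (map_one _)
    · exact Matrix.map_zero _ (map_zero _)
  have h3 : (((toSp hab g : Matrix.symplecticGroup n F) : Matrix (n ⊕ n) (n ⊕ n) F) * Matrix.J n F *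
      ((toSp hab g : Matrix.symplecticGroup n F) : Matrix (n ⊕ n) (n ⊕ n) F)ᵀ).map (algebraMap F K) =
        mat K a b g.1 * Matrix.J n K * (mat K a b g.1)ᵀ := by
    rw [Matrix.map_mul, Matrix.map_mul, hJ]
    rfl
  rw [← h3]
  exact h1.trans hJ

theorem frm_rho (hab : a * a + b * b = -1) (g : GU n F) (v w : n ⊕ n → K) :
    frm K n (rho K hab g v) (rho K hab g w) = frm K n v w := by
  rw [rho_apply, rho_apply, frm_pres (mat_mem hab g)]

theorem uI_mul : (uI : U F) * uI = nu := by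
  apply Subtype.ext
  show (qi : ℍ[F]) * qi = -1
  apply Quaternion.ext <;> simp

/-- `Rj j h` fixes the vectors without `j`-coordinates -/
theorem rho_Rj_fix (hab : a * a + b * b = -1) (j : n) (h : U F) {v : n ⊕ n → K} (h1 : v (Sum.inl j) = 0)
    (h2 : v (Sum.inr j) = 0) : rho K hab (Rj j h) v = v := by
  funext x
  have hm : Mono (Rj j h : GU n F).1 (1 : Perm n) := Rj_mono j h
  rcases x with c | c
  · by_cases hc : c = j
    · subst hc
      have := rho_inl (K := K) hab hm v c
      rw [h1, h2, mul_zero, mul_zero, add_zero] at this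
      exact this.trans h1.symm
    · exact (rho_Rj_ne hab hc h v).1
  · by_cases hc : c = j
    · subst hc
      have := rho_inr (K := K) hab hm v c
      rw [h1, h2, mul_zero, mul_zero, add_zero] at this
      exact this.trans h2.symm
    · exact (rho_Rj_ne hab hc h v).2

theorem range_le (hab : a * a + b * b = -1) (j : n) (h : U F) :
    LinearMap.range (rho K hab (Rj j h) - 1) ≤ Ui K j := by
  rintro _ ⟨v, rfl⟩ c hc
  rw [LinearMap.sub_apply, Module.End.one_apply, Pi.sub_apply, Pi.sub_apply, (rho_Rj_ne hab hc h v).1,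
    (rho_Rj_ne hab hc h v).2, sub_self, sub_self]
  exact ⟨rfl, rfl⟩

theorem finrank_le (hab : a * a + b * b = -1) {i : K} (hi : i * i = -1) (j : n) :
    finrank K (LinearMap.range (aeval (rho K hab (Rj j uI)) ((X - C 1) * (X - C i)))) ≤ 1 := by
  set ρ : (n ⊕ n → K) →ₗ[K] (n ⊕ n → K) := rho K hab (Rj j uI) with hρ
  have hE : ∀ v, aeval ρ ((X - C 1) * (X - C i)) v = ρ (ρ v) - i • ρ v - (ρ v - i • v) := by
    intro v
    rw [map_mul, map_sub (aeval _), map_sub (aeval _), aeval_X, aeval_C, aeval_C, map_one, Module.End.mul_apply,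
      LinearMap.sub_apply, Module.End.one_apply, LinearMap.sub_apply, Module.algebraMap_end_apply, map_sub, map_smul]
  have hρ2 : ∀ v, ρ (ρ v) = rho K hab (Rj j nu) v := by
    intro v
    rw [← uI_mul, map_mul, map_mul, Module.End.mul_apply]
  -- the range lies in the plane
  have hle : LinearMap.range (aeval ρ ((X - C 1) * (X - C i))) ≤ Ui K j := by
    rintro _ ⟨v, rfl⟩
    apply range_le hab j uI
    refine ⟨ρ v - i • v, ?_⟩
    rw [hE, LinearMap.sub_apply, Module.End.one_apply, map_sub, map_smul]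
  have heig : ∀ u ∈ LinearMap.range (aeval ρ ((X - C 1) * (X - C i))), ρ u = -(i • u) := by
    rintro _ ⟨v, rfl⟩
    have hw : ρ (ρ (ρ v) + v) = ρ (ρ v) + v := by
      apply rho_Rj_fix hab j uI
      · rw [hρ2, Pi.add_apply, (rho_t_self hab j v).1, neg_add_cancel]
      · rw [hρ2, Pi.add_apply, (rho_t_self hab j v).2, neg_add_cancel]
    rw [map_add] at hw
    rw [hE, map_sub, map_sub, map_sub, map_smul, map_smul, smul_sub, smul_sub, smul_sub, smul_smul, smul_smul, hi]
    have h3 : ρ (ρ (ρ v)) = ρ (ρ v) + v - ρ v := eq_sub_of_add_eq hw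
    rw [h3]
    module
  by_contra hcon
  have h2 : Ui K j = LinearMap.range (aeval ρ ((X - C 1) * (X - C i))) := by
    symm
    apply Submodule.eq_of_le_of_finrank_le hle
    rw [finrank_Ui]
    omega
  set v : n ⊕ n → K := Sum.elim (Pi.single j 1) 0 with hv
  have hvU : v ∈ Ui K j := by
    intro c hc
    rw [hv, Sum.elim_inl, Sum.elim_inr, Pi.single_eq_of_ne hc]
    exact ⟨rfl, rfl⟩
  have h3 := congrFun (heig v (h2 ▸ hvU)) (Sum.inl j)
  have hm : Mono (Rj j uI : GU n F).1 (1 : Perm n) := Rj_mono j uI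
  have h4 := rho_inl (K := K) hab hm v j
  rw [Equiv.Perm.one_apply, Rj_entry, coe_uI] at h4
  have h5 : toM a b (qi : ℍ[F]) 0 0 = 0 := by simp [toM]
  rw [h5, map_zero, zero_mul, zero_add, hv, Sum.elim_inr, Pi.zero_apply, mul_zero] at h4
  rw [hv] at h3
  rw [← hρ, ← hv] at h4
  rw [← hv, h4, Pi.neg_apply, Pi.smul_apply, hv, Sum.elim_inl, Pi.single_eq_same, smul_eq_mul, mul_one] at h3
  have h6 : i = 0 := by rw [← neg_eq_zero]; exact h3.symm
  rw [h6, mul_zero] at hi
  exact one_ne_zero (neg_eq_zero.1 hi.symm)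

end

section

variable {F : Type} [Field F] [Finite F] {n : Type*} [Fintype n] [DecidableEq n]

/-- **the frame reflections are in the 2-core** -/
theorem z_mem {p : ℕ} [Fact p.Prime] [CharP F p] (h2 : (2 : F) ≠ 0) {H : Subgroup (GU n F)}
    (hp : ¬ p ∣ Nat.card H) {j : n} (hy : Rj j uI ∈ H) :
    Rj j nu ∈ (Cfsg.pCore 2 H).map H.subtype := by
  obtain ⟨K, hK, hKf, hKa, i, hi⟩ := Cfsg.Agent.H563.RV.exists_i F
  have hKp : CharP K p := charP_of_injective_algebraMap (algebraMap F K).injective p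
  have htwoK : (2 : K) ≠ 0 := by
    intro h
    apply h2
    apply (algebraMap F K).injective
    rw [map_ofNat, map_zero]
    exact h
  obtain ⟨a, b, hab⟩ := exists_sq_add_sq (-1 : F)
  let σ : Representation K H (n ⊕ n → K) := (rho K hab).comp H.subtype
  have hinj : ∀ x, σ x = 1 → x = 1 := by
    intro x hx
    apply Subtype.ext
    exact rho_injective (K := K) hab h2 (hx.trans (map_one (rho K hab)).symm)
  let y : H := ⟨Rj j uI, hy⟩
  have hy2 : (y ^ 2 : H) = ⟨Rj j uI, hy⟩ * ⟨Rj j uI, hy⟩ := pow_two _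
  have hz : ((y ^ 2 ^ 1 : H) : GU n F) = Rj j nu := by
    rw [pow_one, pow_two]
    show Rj j uI * Rj j uI = Rj j nu
    rw [← map_mul, uI_mul]
  have hz4 : (Rj j nu : GU n F) * Rj j nu = 1 := by
    rw [← map_mul]
    have : (nu : U F) * nu = 1 := by
      show (-1 : U F) * -1 = 1
      simp
    rw [this, map_one]
  have key : y ^ 2 ^ 1 ∈ Cfsg.pCore 2 H := by
    refine MTwo.mem_pCore_of_rank (p := p) hp σ (y := y) (g := (X - C 1) * (X - C i))
      (mul_ne_zero (X_sub_C_ne_zero _) (X_sub_C_ne_zero _)) (j := 1) (r := 1) ?_ ?_ ?_ ?_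
    · refine natDegree_mul_le.trans ?_
      rw [natDegree_X_sub_C, natDegree_X_sub_C]
      norm_num
    · exact finrank_le hab hi j
    · apply Subtype.ext
      have h1 : (y ^ 2 ^ (1 + 1) : H) = y ^ 2 ^ 1 * y ^ 2 ^ 1 := by
        rw [← pow_add]
        norm_num
      rw [h1, Subgroup.coe_mul, hz, hz4]
      rfl
    · intro z hz' hzt hzr
      apply hinj
      have htt : y ^ 2 ^ 1 * y ^ 2 ^ 1 = 1 := by
        apply Subtype.ext
        rw [Subgroup.coe_mul, hz, hz4]
        rfl
      refine Cfsg.Agent.H563.RV.inv_trivial htwoK (frm K n) frm_alt frm_nondeg (x' := σ z⁻¹) (t := σ (y ^ 2 ^ 1))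
        (fun v w => frm_rho hab _ v w) (fun v w => frm_rho hab _ v w) ?_ ?_ ?_ ?_ (N := orderOf z) hz' ?_ ?_ hzr
      · rw [← map_mul, mul_inv_cancel, map_one]
      · rw [← map_mul, inv_mul_cancel, map_one]
      · rw [← map_mul, htt, map_one]
      · rw [← map_mul, ← map_mul, ← hzt, inv_mul_cancel_right]
      · rw [Ne, CharP.cast_eq_zero_iff K p]
        intro hd
        exact hp (hd.trans (orderOf_dvd_natCard z))
      · rw [← map_pow, pow_orderOf_eq_one, map_one]
  exact ⟨_, key, hz⟩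

theorem Rj_mem_of {T : Subgroup (Perm n)} {H : Subgroup (GU n F)} (hS : SG (Q8 F) T ≤ H) (j : n) {w : U F}
    (hw : w ∈ Q8 F) : Rj j w ∈ H := hS (Rj_mem _ j hw)

/-- the data of `SpThree` -/
theorem dat {p : ℕ} [Fact p.Prime] [CharP F p] (h2 : (2 : F) ≠ 0) (hns : ¬ IsSquare (2 : F))
    (T : Sylow 2 (Perm n)) {H : Subgroup (GU n F)} (hS : SG (Q8 F) (T : Subgroup (Perm n)) ≤ H)
    (hp : ¬ p ∣ Nat.card H) : Dat h2 (T : Subgroup (Perm n)) ((Cfsg.pCore 2 H).map H.subtype) H := by
  have : Fact (Nat.Prime 2) := ⟨Nat.prime_two⟩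
  have hnorm : ∀ h ∈ H, ∀ x ∈ (Cfsg.pCore 2 H).map H.subtype, h * x * h⁻¹ ∈ (Cfsg.pCore 2 H).map H.subtype := by
    rintro h hh _ ⟨x, hx, rfl⟩
    have hn : (Cfsg.pCore 2 H).Normal := inferInstance
    exact ⟨_, hn.conj_mem x hx ⟨h, hh⟩, rfl⟩
  refine ⟨hS, ?_, hnorm, fun j => z_mem h2 hp (Rj_mem_of hS j uI_mem)⟩
  obtain ⟨P, hP⟩ := exists_sylow_gen h2 hns T
  set N : Subgroup (GU n F) := (Cfsg.pCore 2 H).map H.subtype with hN
  have hp2 : IsPGroup 2 N := by
    have h1 : IsPGroup 2 (Cfsg.pCore 2 H) := Cfsg.Agent.Lib.Cores.pCore_isPGroup 2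
    exact h1.map _
  have hnorm' : ∀ g ∈ (P : Subgroup (GU n F)), g ∈ Subgroup.normalizer (N : Set (GU n F)) := by
    intro g hg
    have hgH : g ∈ H := hS (hP ▸ hg)
    rw [Subgroup.mem_normalizer_iff]
    intro m
    constructor
    · exact fun h => hnorm g hgH m h
    · intro h
      have := hnorm g⁻¹ (H.inv_mem hgH) _ h
      simpa [mul_assoc] using this
  have hsup : IsPGroup 2 (((P : Subgroup (GU n F)) ⊔ N : Subgroup (GU n F))) :=
    P.isPGroup'.to_sup_of_normal_right' hp2 hnorm'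
  rw [← hP]
  exact le_sup_right.trans (le_of_eq (P.is_maximal' hsup le_sup_left))

end

end Cfsg.Agent.H408.Hall.SpTwo
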